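import Cfsg.Agent.Omega.EH3.TCL.Basic

/-!
# THEOREM 2C: the trilinear form, `NN`, `XS`, `RR` (helper465)
-/

set_option autoImplicit false

namespace Cfsg.Agent.Omega.EH3.TCL

open Module Cfsg.Agent.LargeExtra.SiegFam Cfsg.Agent.LargeExtra.SiegFam.Lin

variable {V : Type*} [AddCommGroup V] [Module (ZMod 2) V]
variable {q : V → ZMod 2} {b : LinearMap.BilinForm (ZMod 2) V} {H : Subgroup (V ≃ₗ[ZMod 2] V)} {O : Set V}
  {W : V → Submodule (ZMod 2) V} {X : V → Subgroup (V ≃ₗ[ZMod 2] V)}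

/-- transvections -/
def tv (b : LinearMap.BilinForm (ZMod 2) V) (n v : V) : V := v + b n v • n

theorem mul_app (x y : V ≃ₗ[ZMod 2] V) (v : V) : (x * y) v = x (y v) := rfl

theorem inv_app (x : V ≃ₗ[ZMod 2] V) (v : V) : x (x⁻¹ v) = v := x.apply_symm_apply v

theorem app_inv (x : V ≃ₗ[ZMod 2] V) (v : V) : x⁻¹ (x v) = v := x.symm_apply_apply v

theorem one_app (v : V) : (1 : V ≃ₗ[ZMod 2] V) v = v := rfl

namespace TFam

/-! ### calculations with Siegel maps -/

theorem sg_add_v (r a v w : V) : sg q b a r (v + w) = sg q b a r v + sg q b a r w := by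
  simp only [sg, map_add, add_smul, mul_add]
  v2

theorem sg_zero_r (F : TFam q b H O W X) (a v : V) : sg q b a 0 v = v := by
  rw [sg, F.q_zero]; simp

theorem sg_a_r (F : TFam q b H O W X) {a : V} (hq : q a = 0) (v : V) : sg q b a a v = v := by
  rw [sg, hq, zero_mul, zero_smul, add_zero]; v2

theorem sg_fix_a (F : TFam q b H O W X) {a r : V} (h : b a r = 0) : sg q b a r a = a := by
  rw [sg, F.comm r a, h, F.self]; simp

theorem b_sg (F : TFam q b H O W X) {a r : V} (h : b a r = 0) (v : V) : b a (sg q b a r v) = b a v := by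
  rw [sg, map_add, map_add, map_add, map_smul, map_smul, map_smul, F.self, h]; simp

theorem sg_sg (F : TFam q b H O W X) {a r s : V} (hr : b a r = 0) (hs : b a s = 0) (v : V) :
    sg q b a r (sg q b a s v) = sg q b a (r + s) v := by
  rw [sg, b_sg F hs]
  rw [sg, sg, F.q_add, ladd]
  simp only [map_add, map_smul, smul_eq_mul]
  rw [F.comm r a, hr, F.comm r s]
  rcases zm (b a v) with h1 | h1 <;> rw [h1]
  · simp only [mul_zero, zero_smul, add_zero, zero_mul, add_smul]; v2
  · simp only [mul_zero, one_smul, add_zero, zero_mul, add_smul, smul_add, mul_one, one_mul]; v2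

theorem sg_invol (F : TFam q b H O W X) {a r : V} (hr : b a r = 0) (v : V) :
    sg q b a r (sg q b a r v) = v := by
  rw [F.sg_sg hr hr, add_self, F.sg_zero_r]

theorem map_sg (F : TFam q b H O W X) {h : V ≃ₗ[ZMod 2] V} (hh : h ∈ H) (a r v : V) :
    h (sg q b a r v) = sg q b (h a) (h r) (h v) := by
  rw [sg, sg, map_add, map_add, map_add, map_smul, map_smul, map_smul, F.b_H hh, F.b_H hh, F.q_H h hh]

theorem sg_swap {a r : V} (ha : q a = 0) (hr : q r = 0) (v : V) :
    sg q b a r v = sg q b r a v := by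
  rw [sg, sg, ha, hr]; simp only [zero_mul, zero_smul, add_zero]; abel

/-! ### the trilinear form -/

section one

variable {a v : V} {x y z x' y' z' : V ≃ₗ[ZMod 2] V}

theorem delta_mul (x y : V ≃ₗ[ZMod 2] V) (v : V) :
    (x * y) v + v = (x v + v) + (y v + v) + (x (y v + v) + (y v + v)) := by
  rw [mul_app, map_add]; v2

/-- `s_{xy} = s_x + s_y` modulo `W` -/
theorem delta_mul_W (F : TFam q b H O W X) (ha : a ∈ O) (hx : x ∈ X a) (hy : y ∈ X a) (v : V) :
    ∃ w ∈ W a, (x * y) v + v = (x v + v) + (y v + v) + w :=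
  ⟨_, F.X_perp a ha x hx _ (F.b_delta ha hy v), delta_mul x y v⟩

theorem dd_W (F : TFam q b H O W X) (ha : a ∈ O) (hx : x ∈ X a) (hy : y ∈ X a) (v : V) :
    y (x v + v) + (x v + v) ∈ W a := F.X_perp a ha y hy _ (F.b_delta ha hx v)

theorem tri_12 (F : TFam q b H O W X) (ha : a ∈ O) (hx : x ∈ X a) (hy : y ∈ X a) (v : V) :
    tri b v x y z = tri b v y x z := by
  have h : y (x v + v) + (x v + v) = x (y v + v) + (y v + v) := by
    rw [map_add, map_add, F.X_comm a ha y hy x hx]; v2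
  rw [tri, tri, h]

theorem tri_13 (F : TFam q b H O W X) (ha : a ∈ O) (hy : y ∈ X a) (v : V) :
    tri b v x y z = tri b v z y x := by
  rw [tri, tri, F.b_adj' ha hy, F.comm]

theorem tri_23 (F : TFam q b H O W X) (ha : a ∈ O) (hx : x ∈ X a) (hy : y ∈ X a) (hz : z ∈ X a) (v : V) :
    tri b v x y z = tri b v x z y := by
  rw [F.tri_12 ha hx hy, F.tri_13 ha hx, F.tri_12 ha hz hx]

theorem tri_mul3 (F : TFam q b H O W X) (ha : a ∈ O) (hx : x ∈ X a) (hy : y ∈ X a) (hz : z ∈ X a)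
    (hz' : z' ∈ X a) (v : V) : tri b v x y (z * z') = tri b v x y z + tri b v x y z' := by
  obtain ⟨w, hw, e⟩ := F.delta_mul_W ha hz hz' v
  rw [tri, tri, tri, e, map_add, map_add, F.b_W ha (F.dd_W ha hx hy v) hw, add_zero]

theorem tri_mul1 (F : TFam q b H O W X) (ha : a ∈ O) (hx : x ∈ X a) (hx' : x' ∈ X a) (hy : y ∈ X a)
    (hz : z ∈ X a) (v : V) : tri b v (x * x') y z = tri b v x y z + tri b v x' y z := by
  rw [F.tri_13 ha hy, F.tri_mul3 ha hz hy hx hx', F.tri_13 ha hy, F.tri_13 (x := z) ha hy]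

theorem tri_mul2 (F : TFam q b H O W X) (ha : a ∈ O) (hx : x ∈ X a) (hy : y ∈ X a) (hy' : y' ∈ X a)
    (hz : z ∈ X a) (v : V) : tri b v x (y * y') z = tri b v x y z + tri b v x y' z := by
  rw [F.tri_12 ha hx ((X a).mul_mem hy hy'), F.tri_mul1 ha hy hy' hx hz, F.tri_12 ha hy hx,
    F.tri_12 ha hy' hx]

theorem tri_alt (F : TFam q b H O W X) (ha : a ∈ O) (hx : x ∈ X a) (hy : y ∈ X a) (v : V) :
    tri b v x y x = 0 := by
  rw [tri, ladd, F.self, add_zero, F.comm]
  exact F.b_fix_self ha hy (F.b_delta ha hx v)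

theorem tri_alt1 (F : TFam q b H O W X) (ha : a ∈ O) (hx : x ∈ X a) (hz : z ∈ X a) (v : V) :
    tri b v x x z = 0 := by
  rw [F.tri_23 ha hx hx hz]; exact F.tri_alt ha hx hz v

theorem tri_alt2 (F : TFam q b H O W X) (ha : a ∈ O) (hx : x ∈ X a) (hz : z ∈ X a) (v : V) :
    tri b v x z z = 0 := by
  rw [F.tri_13 ha hz]; exact F.tri_alt1 ha hz hx v

/-- the value for representatives -/
theorem tri_rep (F : TFam q b H O W X) (ha : a ∈ O) (hx : x ∈ X a) (hy : y ∈ X a) (hz : z ∈ X a)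
    {v t u : V} (ht : y v + v + t ∈ W a) (hu : z v + v + u ∈ W a) :
    b (x t + t) u = tri b v y x z := by
  have e1 : x t + t = (x (y v + v) + (y v + v)) + (x (y v + v + t) + (y v + v + t)) := by
    simp only [map_add]; v2
  have e2 : u = (z v + v) + (z v + v + u) := by v2
  have hpz : b a (z v + v) = 0 := F.b_delta ha hz v
  have h1 : ∀ w ∈ W a, b (x (y v + v) + (y v + v)) w = 0 := fun w hw =>
    F.b_W ha (F.dd_W ha hy hx v) hw
  have h2 : x (y v + v + t) + (y v + v + t) = 0 ∨ x (y v + v + t) + (y v + v + t) = a := by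
    rcases F.X_W a ha x hx _ ht with h | h
    · left; rw [h]; exact add_self _
    · right; rw [h]; v2
  rw [tri, e1, ladd]
  have hbu : b a u = 0 := by
    rw [e2, map_add, hpz, zero_add]; exact F.perp_W ha hu
  have h3 : b (x (y v + v + t) + (y v + v + t)) u = 0 := by
    rcases h2 with h | h
    · rw [h, map_zero, LinearMap.zero_apply]
    · rw [h]; exact hbu
  rw [h3, add_zero]
  conv_lhs => rw [e2]
  rw [map_add, h1 _ hu, add_zero]

theorem XS_mem (h : XS b X a x) : x ∈ X a := h.1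

theorem XS_tri (F : TFam q b H O W X) (ha : a ∈ O) (hx : XS b X a x) (hy : y ∈ X a) (hz : z ∈ X a) (v : V) :
    tri b v x y z = 0 := by
  rw [F.tri_12 ha hx.1 hy, tri]
  have hpz : b a (z v + v) = 0 := F.b_delta ha hz v
  rcases hx.2 _ (F.b_delta ha hy v) with h | h
  · rw [h, add_self, map_zero, LinearMap.zero_apply]
  · rw [h]
    have : y v + v + a + (y v + v) = a := by v2
    rw [this]; exact hpz

theorem XS_of_tri (F : TFam q b H O W X) (ha : a ∈ O) (hx : x ∈ X a) (hv : b a v = 1)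
    (h : ∀ y ∈ X a, ∀ z ∈ X a, tri b v y x z = 0) : XS b X a x := by
  refine ⟨hx, fun t ht => ?_⟩
  have key : x t + t = 0 ∨ x t + t = a := by
    apply F.eq_of_perp
    intro u hu
    obtain ⟨y, hy, hy'⟩ := F.surj a ha v hv t ht
    obtain ⟨z, hz, hz'⟩ := F.surj a ha v hv u hu
    rw [F.tri_rep ha hx hy hz hy' hz']
    exact h y hy z hz
  rcases key with h1 | h1
  · left; exact eq_of_add h1
  · right
    calc x t = x t + t + t := by v2
      _ = t + a := by rw [h1]; v2

theorem exists_tri (F : TFam q b H O W X) (ha : a ∈ O) (hx : x ∈ X a) (hv : b a v = 1) (h : ¬ XS b X a x) :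
    ∃ y ∈ X a, ∃ z ∈ X a, tri b v y x z = 1 := by
  by_contra hcon
  push Not at hcon
  apply h
  apply F.XS_of_tri ha hx hv
  intro y hy z hz
  rcases zm (tri b v y x z) with h1 | h1
  · exact h1
  · exact absurd h1 (hcon y hy z hz)

/-! ### `NN` -/

theorem NN_add (F : TFam q b H O W X) {s t : V} (hs : NN b X a s) (ht : NN b X a t) :
    NN b X a (s + t) := by
  refine ⟨by rw [map_add, hs.1, ht.1, add_zero], fun x hx => ?_⟩
  rw [map_add]
  rcases hs.2 x hx with h1 | h1 <;> rcases ht.2 x hx with h2 | h2 <;> rw [h1, h2]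
  · left; rfl
  · right; v2
  · right; v2
  · left; v2

theorem NN_W (F : TFam q b H O W X) (ha : a ∈ O) {s : V} (hs : s ∈ W a) : NN b X a s :=
  ⟨F.perp_W ha hs, fun x hx => F.X_W a ha x hx s hs⟩

theorem NN_a (F : TFam q b H O W X) (ha : a ∈ O) : NN b X a a := F.NN_W ha (F.self_W a ha)

theorem NN_orth (F : TFam q b H O W X) (ha : a ∈ O) {s : V} (hs : ∀ w ∈ W a, b s w = 0) : NN b X a s := by
  refine ⟨by rw [F.comm]; exact hs a (F.self_W a ha), fun x hx => ?_⟩
  have key : x s + s = 0 ∨ x s + s = a := by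
    apply F.eq_of_perp
    intro u hu
    rw [F.b_adj' ha hx]
    exact hs _ (F.X_perp a ha x hx u hu)
  rcases key with h1 | h1
  · left; exact eq_of_add h1
  · right
    calc x s = x s + s + s := by v2
      _ = s + a := by rw [h1]; v2

/-- `s_x ∈ NN` if and only if `x` is Siegel -/
theorem XS_of_NN (F : TFam q b H O W X) (ha : a ∈ O) (hx : x ∈ X a) (hv : b a v = 1) {s : V}
    (h : x v + v + s ∈ W a) (hs : NN b X a s) : XS b X a x := by
  apply F.XS_of_tri ha hx hv
  intro y hy z hz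
  rw [F.tri_12 ha hy hx, tri]
  have h1 : NN b X a (x v + v) := by
    have : x v + v = (x v + v + s) + s := by v2
    rw [this]; exact F.NN_add (F.NN_W ha h) hs
  have hpz : b a (z v + v) = 0 := F.b_delta ha hz v
  rcases h1.2 y hy with h2 | h2
  · rw [h2, add_self, map_zero, LinearMap.zero_apply]
  · rw [h2]
    have : x v + v + a + (x v + v) = a := by v2
    rw [this]; exact hpz

theorem NN_of_XS (F : TFam q b H O W X) (ha : a ∈ O) (hx : XS b X a x) (v : V) {s : V}
    (h : x v + v + s ∈ W a) : NN b X a s := by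
  have h1 : NN b X a (x v + v) := by
    refine ⟨F.b_delta ha hx.1 v, fun y hy => ?_⟩
    have e : y (x v + v) + (x v + v) = x (y v + v) + (y v + v) := by
      rw [map_add, map_add, F.X_comm a ha y hy x hx.1]; v2
    rcases hx.2 _ (F.b_delta ha hy v) with h2 | h2
    · left
      rw [h2, add_self] at e
      exact eq_of_add e
    · right
      rw [h2] at e
      calc y (x v + v) = (y (x v + v) + (x v + v)) + (x v + v) := by v2
        _ = x v + v + a := by rw [e]; v2
  have : s = (x v + v) + (x v + v + s) := by v2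
  rw [this]
  exact F.NN_add h1 (F.NN_W ha h)

/-! ### `XS` and `RR` -/

/-- a Siegel element is `sg a (x v + v)` -/
theorem XS_eq_sg (F : TFam q b H O W X) (ha : a ∈ O) (hx : XS b X a x) (hv : b a v = 1) (w : V) :
    x w = sg q b a (x v + v) w := by
  have hperp : ∀ w, b a w = 0 → x w = sg q b a (x v + v) w := by
    intro w hw
    rw [sg, hw, zero_smul, add_zero, mul_zero, zero_smul, add_zero, F.b_adj' ha hx.1]
    rcases hx.2 w hw with h1 | h1
    · rw [h1, add_self, map_zero, zero_smul, add_zero]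
    · have : x w + w = a := by rw [h1]; v2
      rw [this, F.comm, hv, one_smul]; exact h1
  have hv1 : x v = sg q b a (x v + v) v := by
    rw [sg, hv, one_smul, mul_one, F.q_add, F.q_H x (F.X_H ha hx.1), zadd, zero_add, ladd, F.self,
      add_zero]
    v2
  rcases zm (b a w) with h1 | h1
  · exact hperp w h1
  · have h2 : b a (w + v) = 0 := by rw [map_add, h1, hv]; decide
    have h3 := hperp _ h2
    rw [map_add, sg_add_v] at h3
    rw [← hv1] at h3
    exact add_right_cancel h3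

theorem RR_of_XS (F : TFam q b H O W X) (ha : a ∈ O) (hx : XS b X a x) (hv : b a v = 1) :
    RR q b X a (x v + v) :=
  ⟨F.b_delta ha hx.1 v, x, hx.1, F.XS_eq_sg ha hx hv⟩

theorem RR_XS (F : TFam q b H O W X) {r : V} (hx : x ∈ X a) (h : ∀ v, x v = sg q b a r v) :
    XS b X a x := by
  refine ⟨hx, fun v hv => ?_⟩
  rw [h v, sg_perp hv]
  rcases zm (b r v) with h1 | h1
  · left; rw [h1, zero_smul, add_zero]
  · right; rw [h1, one_smul]

theorem RR_a (F : TFam q b H O W X) (ha : a ∈ O) : RR q b X a a :=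
  ⟨F.self a, 1, (X a).one_mem, fun v => by rw [F.sg_a_r (F.q_self ha)]; rfl⟩

theorem RR_zero (F : TFam q b H O W X) : RR q b X a 0 :=
  ⟨map_zero _, 1, (X a).one_mem, fun v => by rw [F.sg_zero_r]; rfl⟩

theorem RR_add (F : TFam q b H O W X) {r s : V} (hr : RR q b X a r) (hs : RR q b X a s) :
    RR q b X a (r + s) := by
  obtain ⟨hr, x, hx, hx'⟩ := hr
  obtain ⟨hs, y, hy, hy'⟩ := hs
  refine ⟨by rw [map_add, hr, hs, add_zero], x * y, (X a).mul_mem hx hy, fun v => ?_⟩
  rw [mul_app, hx', hy', F.sg_sg hr hs]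

theorem RR_W (F : TFam q b H O W X) (ha : a ∈ O) {r : V} (hr : RR q b X a r) (hW : r ∈ W a) :
    r = 0 ∨ r = a := by
  obtain ⟨hr, x, hx, hx'⟩ := hr
  obtain ⟨v, hv⟩ := F.alt.exists_ne (F.zero a ha)
  have h1 := hx' v
  rw [sg_one hv] at h1
  have h2 : x v + v = b r v • a + r + q r • a := by rw [h1]; v2
  have h3 : x = 1 := by
    apply F.inj a ha x hx v hv
    rw [h2]
    exact (W a).add_mem ((W a).add_mem ((W a).smul_mem _ (F.self_W a ha)) hW)
      ((W a).smul_mem _ (F.self_W a ha))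
  rw [h3, one_app, add_self] at h2
  have h4 : r = (b r v + q r) • a := by
    apply eq_of_add
    rw [add_smul, h2]; abel
  rcases zm (b r v + q r) with h5 | h5
  · left; rw [h4, h5, zero_smul]
  · right; rw [h4, h5, one_smul]

theorem RR_NN (F : TFam q b H O W X) (ha : a ∈ O) {r : V} (hr : RR q b X a r) : NN b X a r := by
  obtain ⟨hr, x, hx, hx'⟩ := hr
  obtain ⟨v, hv⟩ := F.alt.exists_ne (F.zero a ha)
  apply F.NN_of_XS ha (F.RR_XS hx hx') v
  have h1 := hx' v
  rw [sg_one hv] at h1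
  have h2 : x v + v + r = b r v • a + q r • a := by rw [h1]; v2
  rw [h2]
  exact (W a).add_mem ((W a).smul_mem _ (F.self_W a ha)) ((W a).smul_mem _ (F.self_W a ha))

/-- `NN = RR + W` -/
theorem NN_eq (F : TFam q b H O W X) (ha : a ∈ O) {s : V} (hs : NN b X a s) :
    ∃ r, RR q b X a r ∧ s + r ∈ W a := by
  obtain ⟨v, hv⟩ := F.alt.exists_ne (F.zero a ha)
  obtain ⟨x, hx, hx'⟩ := F.surj a ha v hv s hs.1
  have h1 := F.XS_of_NN ha hx hv hx' hs
  refine ⟨x v + v, F.RR_of_XS ha h1 hv, ?_⟩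
  rw [add_comm]; exact hx'

/-! ### equivariance -/

theorem X_map' (F : TFam q b H O W X) {h : V ≃ₗ[ZMod 2] V} (hh : h ∈ H) (ha : a ∈ O) (hx : x ∈ X (h a)) :
    h⁻¹ * x * h ∈ X a := by
  have := F.X_map h⁻¹ (H.inv_mem hh) (h a) (F.stable h hh a ha) x hx
  rwa [app_inv, inv_inv] at this

theorem W_iff (F : TFam q b H O W X) {h : V ≃ₗ[ZMod 2] V} (hh : h ∈ H) (ha : a ∈ O) {v : V} :
    h v ∈ W (h a) ↔ v ∈ W a := by
  refine ⟨fun hv => ?_, F.W_map h hh a ha v⟩
  have := F.W_map h⁻¹ (H.inv_mem hh) (h a) (F.stable h hh a ha) _ hv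
  rwa [app_inv, app_inv] at this

theorem NN_map (F : TFam q b H O W X) {h : V ≃ₗ[ZMod 2] V} (hh : h ∈ H) (ha : a ∈ O) {s : V}
    (hs : NN b X a s) : NN b X (h a) (h s) := by
  refine ⟨by rw [F.b_H hh]; exact hs.1, fun x hx => ?_⟩
  have h1 := F.X_map' hh ha hx
  rcases hs.2 _ h1 with h2 | h2
  · left
    have := congrArg h h2
    rw [mul_app, mul_app, inv_app] at this
    exact this
  · right
    have := congrArg h h2
    rw [mul_app, mul_app, inv_app, map_add] at this
    exact this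

theorem XS_map (F : TFam q b H O W X) {h : V ≃ₗ[ZMod 2] V} (hh : h ∈ H) (ha : a ∈ O)
    (hx : XS b X a x) : XS b X (h a) (h * x * h⁻¹) := by
  refine ⟨F.X_map h hh a ha x hx.1, fun v hv => ?_⟩
  have h1 : b a (h⁻¹ v) = 0 := by
    rw [← F.b_H hh, inv_app]; exact hv
  rw [mul_app, mul_app]
  rcases hx.2 _ h1 with h2 | h2
  · left; rw [h2, inv_app]
  · right; rw [h2, map_add, inv_app]

theorem RR_map (F : TFam q b H O W X) {h : V ≃ₗ[ZMod 2] V} (hh : h ∈ H) (ha : a ∈ O) {r : V}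
    (hr : RR q b X a r) : RR q b X (h a) (h r) := by
  obtain ⟨hr, x, hx, hx'⟩ := hr
  refine ⟨by rw [F.b_H hh]; exact hr, h * x * h⁻¹, F.X_map h hh a ha x hx, fun v => ?_⟩
  rw [mul_app, mul_app, hx', F.map_sg hh, inv_app]

theorem map_inv_iff {P : V → V → Prop} (hP : ∀ h ∈ H, ∀ a ∈ O, ∀ r, P a r → P (h a) (h r))
    (F : TFam q b H O W X) {h : V ≃ₗ[ZMod 2] V} (hh : h ∈ H) (ha : a ∈ O) {r : V} :
    P (h a) (h r) ↔ P a r := by
  refine ⟨fun h1 => ?_, hP h hh a ha r⟩
  have := hP h⁻¹ (H.inv_mem hh) (h a) (F.stable h hh a ha) _ h1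
  rwa [app_inv, app_inv] at this

/-- (B4) -/
theorem NN_of_sg (F : TFam q b H O W X) (ha : a ∈ O) {y : V} (hy : b a y = 0) {h : V ≃ₗ[ZMod 2] V}
    (hh : h ∈ H) (he : ∀ v, h v = sg q b a y v) : NN b X a y := by
  refine ⟨hy, fun x hx => ?_⟩
  have hha : h a = a := by rw [he, F.sg_fix_a hy]
  have h1 : h * x * h⁻¹ * x ∈ X a := by
    have := F.X_map h hh a ha x hx
    rw [hha] at this
    exact (X a).mul_mem this hx
  have hinv : ∀ v, h⁻¹ v = sg q b a y v := by
    intro v
    have : h (sg q b a y v) = v := by rw [he, F.sg_invol hy]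
    rw [← this, app_inv, this]
  have hxy : b a (x y) = 0 := by rw [F.b_fix ha hx]; exact hy
  have h2 : RR q b X a (y + x y) := by
    refine ⟨by rw [map_add, hy, hxy, add_zero], _, h1, fun v => ?_⟩
    rw [mul_app, mul_app, mul_app, hinv, he, F.map_sg (F.X_H ha hx), F.X_fix a ha x hx,
      F.X_sq a ha x hx, F.sg_sg hy hxy]
  have h3 : y + x y ∈ W a := by rw [add_comm]; exact F.X_perp a ha x hx y hy
  rcases F.RR_W ha h2 h3 with h4 | h4
  · left; exact (eq_of_add h4).symm
  · right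
    calc x y = y + x y + y := by v2
      _ = y + a := by rw [h4]; v2

end one

end TFam

end Cfsg.Agent.Omega.EH3.TCL
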