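import Cfsg.Agent.Omega.EH3.Of
import Cfsg.Agent.Omega.EH3.TCL.Form

/-!
# THEOREM 2C: the bridge from a pair (helper71)

`tFam`: for `p : Pair Q z A a` with `C_G(z)` irreducible on `V`: `TFam p.lz.q p.lz.b p.H (orb p) (fam p p.D) (xfam p)`.
`exists_not_XS`: `¬ AllSg p` gives the hypothesis `hT` of THEOREM 2C.
`card_D`, `noSg`: the conclusion `RR ⊆ {0, a}` of THEOREM 2C gives `|D̃| = 2^w` and `NoSg p`.
-/

set_option autoImplicit false

namespace Cfsg.Agent.Omega.EH3.TCL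

open Module
open Cfsg.Agent.Co2Type.Quad Cfsg.Agent.LargeExtra.Base Cfsg.Agent.LargeExtra.TwoCentral
open Cfsg.Agent.LargeExtra.Siegel Cfsg.Agent.LargeExtra.SiegelOrbit Cfsg.Agent.LargeExtra.SixInst
open Cfsg.Agent.LargeExtra.SiegFam.Inst Cfsg.Agent.LargeExtra.SiegFam
open Cfsg.Agent.LargeExtra.Tri.Basic

variable {G : Type*} [Group G] {Q A : Subgroup G} {z a : G}

/-- transport of `X` along the orbit -/
noncomputable def xfam (p : Pair Q z A a) (c : p.lz.V) : Subgroup (p.lz.V ≃ₗ[ZMod 2] p.lz.V) := by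
  classical
  exact if h : ∃ f ∈ p.H, f p.va = c then p.X.map (MulAut.conj h.choose).toMonoidHom else ⊥

theorem mem_xfam (p : Pair Q z A a) {f : p.lz.V ≃ₗ[ZMod 2] p.lz.V} (hf : f ∈ p.H)
    {g : p.lz.V ≃ₗ[ZMod 2] p.lz.V} : g ∈ xfam p (f p.va) ↔ ∃ x ∈ p.X, f * x * f⁻¹ = g := by
  classical
  have hex : ∃ g ∈ p.H, g p.va = f p.va := ⟨f, hf, rfl⟩
  have e : xfam p (f p.va) = p.X.map (MulAut.conj hex.choose).toMonoidHom := by
    rw [xfam, dif_pos hex]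
  rw [e]
  obtain ⟨h1, h2⟩ := hex.choose_spec
  generalize hex.choose = k at h1 h2
  have key : ∀ g g' : p.lz.V ≃ₗ[ZMod 2] p.lz.V, g ∈ p.H → g' ∈ p.H → g p.va = g' p.va →
      ∀ x ∈ p.X, g'⁻¹ * g * x * (g'⁻¹ * g)⁻¹ ∈ p.X := by
    intro g g' hg hg' hgg x hx
    apply p.X_normal (p.H.mul_mem (p.H.inv_mem hg') hg) _ hx
    show g'⁻¹ (g p.va) = p.va
    rw [hgg]
    exact g'.symm_apply_apply _
  constructor
  · rintro ⟨x, hx, rfl⟩
    refine ⟨_, key k f h1 hf h2 x hx, ?_⟩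
    show f * (f⁻¹ * k * x * (f⁻¹ * k)⁻¹) * f⁻¹ = k * x * k⁻¹
    group
  · rintro ⟨x, hx, rfl⟩
    refine ⟨_, key f k hf h1 h2.symm x hx, ?_⟩
    show k * (k⁻¹ * f * x * (k⁻¹ * f)⁻¹) * k⁻¹ = f * x * f⁻¹
    group

theorem mul_v (p : Pair Q z A a) (f g : p.lz.V ≃ₗ[ZMod 2] p.lz.V) (v : p.lz.V) :
    (f * g) v = f (g v) := rfl

theorem inv_v (p : Pair Q z A a) (f : p.lz.V ≃ₗ[ZMod 2] p.lz.V) (v : p.lz.V) : f⁻¹ (f v) = v :=
  f.symm_apply_apply v

theorem v_inv (p : Pair Q z A a) (f : p.lz.V ≃ₗ[ZMod 2] p.lz.V) (v : p.lz.V) : f (f⁻¹ v) = v :=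
  f.apply_symm_apply v

/-- **the instance** -/
theorem tFam [Finite G] (p : Pair Q z A a) (hirr : IrrC p.lz) :
    TFam p.lz.q p.lz.b p.H (orb p) (fam p p.D) (xfam p) where
  alt := alt p.lz
  q_add := p.lz.q_add'
  q_H := fun h hh v => H_le_O p hh v
  zero := by
    rintro _ ⟨f, hf, rfl⟩ h0
    exact p.va_ne (f.map_eq_zero_iff.1 h0)
  stable := by
    rintro h hh _ ⟨f, hf, rfl⟩
    exact ⟨h * f, p.H.mul_mem hh hf, rfl⟩
  trans := by
    rintro _ ⟨f, hf, rfl⟩ _ ⟨g, hg, rfl⟩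
    refine ⟨g * f⁻¹, p.H.mul_mem hg (p.H.inv_mem hf), ?_⟩
    rw [mul_v p, inv_v p]
  self_W := by
    rintro _ ⟨f, hf, rfl⟩
    exact (mem_fam p (inv_D p) hf).2 ⟨p.va, p.va_mem_D, rfl⟩
  q_W := by
    rintro _ ⟨f, hf, rfl⟩ v hv
    obtain ⟨s, hs, rfl⟩ := (mem_fam p (inv_D p) hf).1 hv
    rw [q_of_mem_O p.lz (H_le_O p hf)]
    exact p.q_D hs
  W_map := fun h hh c hc v hv => fam_map p (inv_D p) hh hc hv
  X_le := by
    rintro _ ⟨f, hf, rfl⟩ g hg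
    obtain ⟨x, hx, rfl⟩ := (mem_xfam p hf).1 hg
    exact p.H.mul_mem (p.H.mul_mem hf (p.X_le_H hx)) (p.H.inv_mem hf)
  X_map := by
    rintro h hh _ ⟨f, hf, rfl⟩ g hg
    obtain ⟨x, hx, rfl⟩ := (mem_xfam p hf).1 hg
    refine (mem_xfam p (p.H.mul_mem hh hf)).2 ⟨x, hx, ?_⟩
    group
  X_fix := by
    rintro _ ⟨f, hf, rfl⟩ g hg
    obtain ⟨x, hx, rfl⟩ := (mem_xfam p hf).1 hg
    rw [mul_v p, mul_v p, inv_v p, p.X_va hx]
  X_comm := by
    rintro _ ⟨f, hf, rfl⟩ g hg g' hg' v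
    obtain ⟨x, hx, rfl⟩ := (mem_xfam p hf).1 hg
    obtain ⟨y, hy, rfl⟩ := (mem_xfam p hf).1 hg'
    simp only [mul_v p, inv_v p]
    have := congrArg (fun k : p.lz.V ≃ₗ[ZMod 2] p.lz.V => k (f⁻¹ v)) (p.X_comm hx hy)
    exact congrArg f this
  X_sq := by
    rintro _ ⟨f, hf, rfl⟩ g hg v
    obtain ⟨x, hx, rfl⟩ := (mem_xfam p hf).1 hg
    simp only [mul_v p, inv_v p]
    have := congrArg (fun k : p.lz.V ≃ₗ[ZMod 2] p.lz.V => k (f⁻¹ v)) (p.X_sq hx)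
    have h2 : x (x (f⁻¹ v)) = f⁻¹ v := this
    rw [h2, v_inv p]
  X_perp := by
    rintro _ ⟨f, hf, rfl⟩ g hg v hv
    obtain ⟨x, hx, rfl⟩ := (mem_xfam p hf).1 hg
    have h1 : p.lz.b p.va (f⁻¹ v) = 0 := by
      rw [← b_of_mem_O p.lz (H_le_O p hf), v_inv p]; exact hv
    refine (mem_fam p (inv_D p) hf).2 ⟨_, p.X_perp hx h1, ?_⟩
    rw [map_add, v_inv p]; rfl
  X_W := by
    rintro _ ⟨f, hf, rfl⟩ g hg v hv
    obtain ⟨x, hx, rfl⟩ := (mem_xfam p hf).1 hg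
    obtain ⟨s, hs, rfl⟩ := (mem_fam p (inv_D p) hf).1 hv
    rw [mul_v p, mul_v p, inv_v p]
    rcases p.X_D hx hs with h | h
    · left; rw [h]
    · right; rw [h, map_add]
  inj := by
    rintro _ ⟨f, hf, rfl⟩ g hg v hv hW
    obtain ⟨x, hx, rfl⟩ := (mem_xfam p hf).1 hg
    obtain ⟨s, hs, hse⟩ := (mem_fam p (inv_D p) hf).1 hW
    have h1 : p.lz.b p.va (f⁻¹ v) = 1 := by
      rw [← b_of_mem_O p.lz (H_le_O p hf), v_inv p]; exact hv
    have h2 : x (f⁻¹ v) + f⁻¹ v ∈ p.D := by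
      have e : s = x (f⁻¹ v) + f⁻¹ v := by
        apply f.injective
        rw [hse, map_add, v_inv p]; rfl
      rw [← e]; exact hs
    rw [eq_one_of_delta p hx h1 h2, mul_one, mul_inv_cancel]
  surj := by
    rintro _ ⟨f, hf, rfl⟩ v hv s hs
    have h1 : p.lz.b p.va (f⁻¹ v) = 1 := by
      rw [← b_of_mem_O p.lz (H_le_O p hf), v_inv p]; exact hv
    have h2 : p.lz.b p.va (f⁻¹ s) = 0 := by
      rw [← b_of_mem_O p.lz (H_le_O p hf), v_inv p]; exact hs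
    obtain ⟨x, hx, hx'⟩ := exists_delta p h1 h2
    refine ⟨f * x * f⁻¹, (mem_xfam p hf).2 ⟨x, hx, rfl⟩, ?_⟩
    refine (mem_fam p (inv_D p) hf).2 ⟨_, hx', ?_⟩
    rw [map_add, map_add, v_inv p, v_inv p]; rfl
  span := by
    intro v hv
    have hU : U p = ⊤ := by
      rcases hirr (U p) (fun c w hw => U_inv p ⟨c, rfl⟩ hw) with h | h
      · exfalso
        have h2 := va_mem_U p
        rw [h, Submodule.mem_bot] at h2
        exact p.va_ne h2
      · exact h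
    apply p.lz.b_nondeg
    intro w
    have hw : w ∈ U p := by rw [hU]; trivial
    rw [p.lz.b_comm]
    exact perp_U p (fun f hf => hv _ ⟨f, hf, rfl⟩) w hw

/-- the hypothesis `hT` of THEOREM 2C -/
theorem exists_not_XS [Finite G] (p : Pair Q z A a) (hA : ¬ AllSg p) :
    ∀ c ∈ orb p, ∃ x ∈ xfam p c, ¬ XS p.lz.b (xfam p) c x := by
  obtain ⟨x, hx, hxS⟩ : ∃ x ∈ p.X, ¬ ∀ v, p.lz.b p.va v = 0 → x v = v ∨ x v = v + p.va := by
    by_contra hcon
    push Not at hcon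
    exact hA fun f hf => eq_sg p.lz (q_va p) p.va_ne (X_le_O p hf) (p.X_va hf) (hcon f hf)
  rintro _ ⟨f, hf, rfl⟩
  refine ⟨f * x * f⁻¹, (mem_xfam p hf).2 ⟨x, hx, rfl⟩, fun hXS => hxS fun v hv => ?_⟩
  have h1 : p.lz.b (f p.va) (f v) = 0 := by rw [b_of_mem_O p.lz (H_le_O p hf)]; exact hv
  rcases hXS.2 _ h1 with h2 | h2
  · left
    rw [mul_v p, mul_v p, inv_v p] at h2
    exact f.injective h2
  · right
    rw [mul_v p, mul_v p, inv_v p, ← map_add] at h2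
    exact f.injective h2

theorem xfam_va (p : Pair Q z A a) : xfam p p.va = p.X := by
  have h2 : (1 : p.lz.V ≃ₗ[ZMod 2] p.lz.V) p.va = p.va := rfl
  ext g
  have h1 := mem_xfam p p.H.one_mem (g := g)
  rw [h2] at h1
  rw [h1]
  constructor
  · rintro ⟨x, hx, rfl⟩
    rw [one_mul, inv_one, mul_one]; exact hx
  · intro hg
    exact ⟨g, hg, by rw [one_mul, inv_one, mul_one]⟩

/-- `W^⊥ = W` from the conclusion of THEOREM 2C -/
theorem D_perp [Finite G] (p : Pair Q z A a) (hirr : IrrC p.lz)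
    (hR : ∀ r, RR p.lz.q p.lz.b (xfam p) p.va r → r = 0 ∨ r = p.va) {v : p.lz.V}
    (hv : ∀ w ∈ p.D, p.lz.b v w = 0) : v ∈ p.D := by
  have F := tFam p hirr
  have hva := va_mem_orb p
  have h1 : NN p.lz.b (xfam p) p.va v := F.NN_orth hva fun w hw => by
    rw [fam_va p (inv_D p)] at hw
    exact hv w hw
  obtain ⟨r, hr, hvr⟩ := F.NN_eq hva h1
  rw [fam_va p (inv_D p)] at hvr
  rcases hR r hr with h2 | h2
  · rw [h2, add_zero] at hvr; exact hvr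
  · rw [h2] at hvr
    have := p.D.add_mem hvr p.va_mem_D
    rwa [add_assoc, p.lz.add_self, add_zero] at this

theorem card_D [Finite G] (p : Pair Q z A a) (hirr : IrrC p.lz)
    (hR : ∀ r, RR p.lz.q p.lz.b (xfam p) p.va r → r = 0 ∨ r = p.va) {w : ℕ}
    (hQ : Nat.card Q = 2 ^ (2 * w + 1)) : Nat.card p.D = 2 ^ w := by
  have hV : Nat.card p.lz.V = 2 ^ w * 2 ^ w := by
    have h1 := p.lz.card_eq
    rw [hQ, pow_succ, mul_comm (2 ^ (2 * w))] at h1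
    rw [← Nat.eq_of_mul_eq_mul_left (by norm_num) h1, ← pow_add, two_mul]
  have h1 := Cfsg.Agent.LargeExtra.Perp.card_perp p.lz p.D
  have h2 : p.lz.b.orthogonal p.D = p.D := by
    ext v
    rw [Cfsg.Agent.LargeExtra.Perp.mem_perp]
    constructor
    · intro hv
      exact D_perp p hirr hR fun w hw => by rw [p.lz.b_comm]; exact hv w hw
    · intro hv w hw
      exact p.b_D hw hv
  rw [h2, hV] at h1
  exact Nat.mul_self_inj.1 h1

/-- no Siegel elements -/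
theorem noSg [Finite G] (p : Pair Q z A a) (hirr : IrrC p.lz)
    (hR : ∀ r, RR p.lz.q p.lz.b (xfam p) p.va r → r = 0 ∨ r = p.va) : NoSg p := by
  have F := tFam p hirr
  have hva := va_mem_orb p
  obtain ⟨v, hv, -⟩ := exists_v p
  intro f hf hf1
  by_contra hcon
  push Not at hcon
  apply hf1
  have hXS : XS p.lz.b (xfam p) p.va f := by
    refine ⟨by rw [xfam_va]; exact hf, fun u hu => ?_⟩
    by_cases h0 : f u + u = 0
    · left; exact Lin.eq_of_add h0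
    · right
      have h1 := hcon u hu h0
      have : f u = u + (f u + u) := by v2
      rw [this, h1]
  have h1 := hR _ (F.RR_of_XS hva hXS hv)
  have h2 : f v + v ∈ p.D := by
    rcases h1 with h1 | h1 <;> rw [h1]
    · exact p.D.zero_mem
    · exact p.va_mem_D
  exact eq_one_of_delta p hf hv h2

end Cfsg.Agent.Omega.EH3.TCL
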