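import Cfsg.Agent.Omega.EH3.TCL.Glue
import Cfsg.Agent.Omega.EH3.TCL.Bridge
import Cfsg.Agent.Omega.EH3.TwoC.CaseS

/-!
# THEOREM 2C (bb OMEGA #12780; helper465, helper316, helper330, helper71)

`TFam.main` : in the linear setting, `X a` not all Siegel ⇒ `RR a = {0, a}` (no nontrivial Siegel element in `X a`).
`cfg` : `Q = 2^(1+2w)`, `w ≥ 5`, `C_G(z)` irreducible on `Q/⟨z⟩`, `p : Pair Q z A a`, not all elements of `p.X`
Siegel ⇒ helper888's configuration `Cfg` (`d = w`, no Siegel element in `X`).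
-/

set_option autoImplicit false

namespace Cfsg.Agent.Omega.EH3.TCL

open Cfsg.Agent.Co2Type.Quad Cfsg.Agent.LargeExtra.Base Cfsg.Agent.LargeExtra.Siegel
open Cfsg.Agent.LargeExtra.SiegFam Cfsg.Agent.LargeExtra.SiegFam.Inst Cfsg.Agent.Omega.EH3
open Cfsg.Agent.LargeExtra.SixInst

namespace TFam

variable {V : Type*} [AddCommGroup V] [Module (ZMod 2) V]
variable {q : V → ZMod 2} {b : LinearMap.BilinForm (ZMod 2) V} {H : Subgroup (V ≃ₗ[ZMod 2] V)} {O : Set V}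
  {W : V → Submodule (ZMod 2) V} {X : V → Subgroup (V ≃ₗ[ZMod 2] V)}

/-- **THEOREM 2C**, linear form -/
theorem main (F : TFam q b H O W X) (hT : ∀ a ∈ O, ∃ x ∈ X a, ¬ XS b X a x) {a : V} (ha : a ∈ O)
    {r : V} (hr : RR q b X a r) : r = 0 ∨ r = a :=
  F.main_of (fun h1 h2 h3 h4 h5 h6 h7 => F.lf.caseS h1 h2 h3 h4 h5 h6 h7) hT ha hr

end TFam

variable {G : Type*} [Group G] {Q A : Subgroup G} {z a : G}

/-- `RR = {0, ã}` for a pair -/
theorem pair_RR [Finite G] (p : Pair Q z A a) (hirr : IrrC p.lz) (hA : ¬ AllSg p) :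
    ∀ r, RR p.lz.q p.lz.b (xfam p) p.va r → r = 0 ∨ r = p.va := fun _ hr =>
  (tFam p hirr).main (exists_not_XS p hA) (va_mem_orb p) hr

/-- **THEOREM 2C**: `T ≠ 0` implies the main case -/
theorem cfg [Finite G] (p : Pair Q z A a) {w : ℕ} (hw : 5 ≤ w) (hQ : Nat.card Q = 2 ^ (2 * w + 1))
    (hirr : IrrC p.lz) (hA : ¬ AllSg p) :
    Cfg (p.H.subtype : p.H →* (p.lz.V ≃ₗ[ZMod 2] p.lz.V)) p.lz.b p.lz.q p.va p.D
      (p.X.subgroupOf p.H) w :=
  of_pair p hw hQ (card_D p hirr (pair_RR p hirr hA) hQ) hirr (noSg p hirr (pair_RR p hirr hA))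

end Cfsg.Agent.Omega.EH3.TCL
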