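import Cfsg.Agent.LargeExtra.SiegFam.Basic

/-!
# THEOREM 2C, abstract situation (helper465)

`TFam q b H O W X`: `V` a nondegenerate quadratic space over `F₂`, `H` a group of isometries, `O` an `H`-orbit
of nonzero singular vectors spanning `V`, `W a` totally singular, `X a ≤ H` elementary abelian, both
equivariant, `[a^⊥, X a] ≤ W a`, `[W a, X a] ≤ ⟨a⟩`, and `x ↦ x v + v` induces a bijection `X a → a^⊥ / W a` for
`b a v = 1`.

The trilinear form `tri b v x y z = b (y s + s) (z v + v)`, `s = x v + v`.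
-/

set_option autoImplicit false

namespace Cfsg.Agent.Omega.EH3.TCL

open Module Cfsg.Agent.LargeExtra.SiegFam Cfsg.Agent.LargeExtra.SiegFam.Lin

variable {V : Type*} [AddCommGroup V] [Module (ZMod 2) V]

theorem z2 (v : V) : (2 : ℤ) • v = 0 := by rw [two_zsmul]; exact add_self v

theorem z4 (v : V) : (4 : ℤ) • v = 0 := by
  rw [show (4 : ℤ) = 2 * 2 from rfl, mul_smul]; exact z2 _

theorem z6 (v : V) : (6 : ℤ) • v = 0 := by
  rw [show (6 : ℤ) = 2 * 3 from rfl, mul_smul]; exact z2 _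

theorem z8 (v : V) : (8 : ℤ) • v = 0 := by
  rw [show (8 : ℤ) = 2 * 4 from rfl, mul_smul]; exact z2 _

theorem n2 (v : V) : (2 : ℕ) • v = 0 := by rw [two_nsmul]; exact add_self v

theorem n4 (v : V) : (4 : ℕ) • v = 0 := by
  rw [show (4 : ℕ) = 2 * 2 from rfl, mul_smul]; exact n2 _

theorem n6 (v : V) : (6 : ℕ) • v = 0 := by
  rw [show (6 : ℕ) = 2 * 3 from rfl, mul_smul]; exact n2 _

theorem n8 (v : V) : (8 : ℕ) • v = 0 := by
  rw [show (8 : ℕ) = 2 * 4 from rfl, mul_smul]; exact n2 _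

theorem add_eq (v w : V) (h : v = w) : v + w = 0 := by rw [h]; exact add_self w

/-- closes equations of sums in characteristic two -/
macro "v2" : tactic => `(tactic| (
  refine Cfsg.Agent.LargeExtra.SiegFam.Lin.eq_of_add ?_
  abel_nf
  try simp only [z2, z4, z6, z8, n2, n4, n6, n8, add_zero, zero_add, smul_zero]))

example (u v w : V) : u + v + w + (w + v) = u := by v2

/-- the trilinear form -/
def tri (b : LinearMap.BilinForm (ZMod 2) V) (v : V) (x y z : V ≃ₗ[ZMod 2] V) : ZMod 2 :=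
  b (y (x v + v) + (x v + v)) (z v + v)

/-- the abstract family -/
structure TFam (q : V → ZMod 2) (b : LinearMap.BilinForm (ZMod 2) V) (H : Subgroup (V ≃ₗ[ZMod 2] V))
    (O : Set V) (W : V → Submodule (ZMod 2) V) (X : V → Subgroup (V ≃ₗ[ZMod 2] V)) : Prop where
  alt : Alt b
  q_add : ∀ v w, q (v + w) = q v + q w + b v w
  q_H : ∀ h ∈ H, ∀ v, q (h v) = q v
  zero : ∀ c ∈ O, c ≠ 0
  stable : ∀ h ∈ H, ∀ c ∈ O, h c ∈ O
  trans : ∀ c ∈ O, ∀ c' ∈ O, ∃ h ∈ H, h c = c'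
  self_W : ∀ c ∈ O, c ∈ W c
  q_W : ∀ c ∈ O, ∀ v ∈ W c, q v = 0
  W_map : ∀ h ∈ H, ∀ c ∈ O, ∀ v ∈ W c, h v ∈ W (h c)
  X_le : ∀ c ∈ O, X c ≤ H
  X_map : ∀ h ∈ H, ∀ c ∈ O, ∀ x ∈ X c, h * x * h⁻¹ ∈ X (h c)
  X_fix : ∀ c ∈ O, ∀ x ∈ X c, x c = c
  X_comm : ∀ c ∈ O, ∀ x ∈ X c, ∀ y ∈ X c, ∀ v, x (y v) = y (x v)
  X_sq : ∀ c ∈ O, ∀ x ∈ X c, ∀ v, x (x v) = v
  X_perp : ∀ c ∈ O, ∀ x ∈ X c, ∀ v, b c v = 0 → x v + v ∈ W c
  X_W : ∀ c ∈ O, ∀ x ∈ X c, ∀ v ∈ W c, x v = v ∨ x v = v + c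
  inj : ∀ a ∈ O, ∀ x ∈ X a, ∀ v, b a v = 1 → x v + v ∈ W a → x = 1
  surj : ∀ a ∈ O, ∀ v, b a v = 1 → ∀ s, b a s = 0 → ∃ x ∈ X a, x v + v + s ∈ W a
  span : ∀ v, (∀ c ∈ O, b c v = 0) → v = 0

/-- the perpendicular vectors moved by multiples of `a` only -/
def NN (b : LinearMap.BilinForm (ZMod 2) V) (X : V → Subgroup (V ≃ₗ[ZMod 2] V)) (a v : V) : Prop :=
  b a v = 0 ∧ ∀ x ∈ X a, x v = v ∨ x v = v + a

/-- the Siegel elements of `X a` -/
def XS (b : LinearMap.BilinForm (ZMod 2) V) (X : V → Subgroup (V ≃ₗ[ZMod 2] V)) (a : V)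
    (x : V ≃ₗ[ZMod 2] V) : Prop :=
  x ∈ X a ∧ ∀ v, b a v = 0 → x v = v ∨ x v = v + a

/-- the directions of the Siegel elements -/
def RR (q : V → ZMod 2) (b : LinearMap.BilinForm (ZMod 2) V) (X : V → Subgroup (V ≃ₗ[ZMod 2] V))
    (a r : V) : Prop :=
  b a r = 0 ∧ ∃ x ∈ X a, ∀ v, x v = sg q b a r v

namespace TFam

variable {q : V → ZMod 2} {b : LinearMap.BilinForm (ZMod 2) V} {H : Subgroup (V ≃ₗ[ZMod 2] V)} {O : Set V}
  {W : V → Submodule (ZMod 2) V} {X : V → Subgroup (V ≃ₗ[ZMod 2] V)}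

theorem comm (F : TFam q b H O W X) (v w : V) : b v w = b w v := F.alt.comm v w

theorem self (F : TFam q b H O W X) (v : V) : b v v = 0 := F.alt.self v

theorem q_zero (F : TFam q b H O W X) : q 0 = 0 := by
  have h := F.q_add 0 0
  rw [add_zero, map_zero, add_zero, zadd] at h
  exact h

theorem b_eq (F : TFam q b H O W X) (v w : V) : b v w = q (v + w) + q v + q w := by
  rw [F.q_add]
  generalize q v = x, q w = y, b v w = z
  revert x y z; decide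

theorem q_self (F : TFam q b H O W X) {c : V} (hc : c ∈ O) : q c = 0 := F.q_W c hc c (F.self_W c hc)

theorem b_H (F : TFam q b H O W X) {h : V ≃ₗ[ZMod 2] V} (hh : h ∈ H) (v w : V) :
    b (h v) (h w) = b v w := by
  rw [F.b_eq, F.b_eq, ← map_add, F.q_H h hh, F.q_H h hh, F.q_H h hh]

theorem b_W (F : TFam q b H O W X) {c : V} (hc : c ∈ O) {v w : V} (hv : v ∈ W c) (hw : w ∈ W c) :
    b v w = 0 := by
  rw [F.b_eq, F.q_W c hc _ ((W c).add_mem hv hw), F.q_W c hc v hv, F.q_W c hc w hw]; rfl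

theorem perp_W (F : TFam q b H O W X) {c : V} (hc : c ∈ O) {v : V} (hv : v ∈ W c) : b c v = 0 :=
  F.b_W hc (F.self_W c hc) hv

theorem ladd (v w u : V) : b (v + w) u = b v u + b w u := by
  rw [map_add, LinearMap.add_apply]

section one

variable {a : V}

theorem X_H (F : TFam q b H O W X) (ha : a ∈ O) {x : V ≃ₗ[ZMod 2] V} (hx : x ∈ X a) : x ∈ H :=
  F.X_le a ha hx

theorem b_X (F : TFam q b H O W X) (ha : a ∈ O) {x : V ≃ₗ[ZMod 2] V} (hx : x ∈ X a) (v w : V) :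
    b (x v) (x w) = b v w := F.b_H (F.X_H ha hx) v w

/-- `b (x v) w = b v (x w)` -/
theorem b_adj (F : TFam q b H O W X) (ha : a ∈ O) {x : V ≃ₗ[ZMod 2] V} (hx : x ∈ X a) (v w : V) :
    b (x v) w = b v (x w) := by
  rw [← F.b_X ha hx v (x w), F.X_sq a ha x hx]

/-- `b (x v + v) w = b v (x w + w)` -/
theorem b_adj' (F : TFam q b H O W X) (ha : a ∈ O) {x : V ≃ₗ[ZMod 2] V} (hx : x ∈ X a) (v w : V) :
    b (x v + v) w = b v (x w + w) := by
  rw [ladd, map_add, F.b_adj ha hx]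

theorem b_fix (F : TFam q b H O W X) (ha : a ∈ O) {x : V ≃ₗ[ZMod 2] V} (hx : x ∈ X a) (v : V) :
    b a (x v) = b a v := by
  rw [← F.b_adj ha hx, F.X_fix a ha x hx]

/-- `x v + v ∈ a^⊥` -/
theorem b_delta (F : TFam q b H O W X) (ha : a ∈ O) {x : V ≃ₗ[ZMod 2] V} (hx : x ∈ X a) (v : V) :
    b a (x v + v) = 0 := by
  rw [map_add, F.b_fix ha hx, zadd]

theorem W_X (F : TFam q b H O W X) (ha : a ∈ O) {x : V ≃ₗ[ZMod 2] V} (hx : x ∈ X a) {v : V}
    (hv : v ∈ W a) : x v ∈ W a := by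
  rcases F.X_W a ha x hx v hv with h | h
  · rw [h]; exact hv
  · rw [h]; exact (W a).add_mem hv (F.self_W a ha)

/-- (B6) -/
theorem b_fix_self (F : TFam q b H O W X) (ha : a ∈ O) {x : V ≃ₗ[ZMod 2] V} (hx : x ∈ X a) {v : V}
    (hv : b a v = 0) : b v (x v) = 0 := by
  have h1 := F.q_W a ha _ (F.X_perp a ha x hx v hv)
  rw [F.q_add, F.q_H x (F.X_H ha hx), zadd, zero_add] at h1
  rw [F.comm]; exact h1

/-- the fixed vectors and `W a ^⊥` -/
theorem eq_of_perp (F : TFam q b H O W X) {a d : V} (h : ∀ v, b a v = 0 → b d v = 0) : d = 0 ∨ d = a := by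
  by_cases h0 : d = 0
  · exact Or.inl h0
  · right
    obtain ⟨v1, h1⟩ := F.alt.exists_ne h0
    have h2 : b a v1 = 1 := zm_ne fun h2 => by rw [h v1 h2] at h1; exact zero_ne_one h1
    apply eq_of_add
    apply F.alt.nondeg
    intro v
    rw [ladd]
    rcases zm (b a v) with h3 | h3
    · rw [h v h3, h3, add_zero]
    · have h4 : b a (v + v1) = 0 := by rw [map_add, h3, h2]; decide
      have h5 := h _ h4
      rw [map_add, h1] at h5
      rw [h3, h5]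

end one

end TFam

end Cfsg.Agent.Omega.EH3.TCL
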