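import Cfsg.Agent.Omega.EH3.TCL.CaseN

/-!
# THEOREM 2C: the anisotropic case, `|RR a / ⟨a⟩| > 2`; and (A) (helper465)
-/

set_option autoImplicit false

namespace Cfsg.Agent.Omega.EH3.TCL

open Module Cfsg.Agent.LargeExtra.SiegFam Cfsg.Agent.LargeExtra.SiegFam.Lin

variable {V : Type*} [AddCommGroup V] [Module (ZMod 2) V]
variable {q : V → ZMod 2} {b : LinearMap.BilinForm (ZMod 2) V} {H : Subgroup (V ≃ₗ[ZMod 2] V)} {O : Set V}
  {W : V → Submodule (ZMod 2) V} {X : V → Subgroup (V ≃ₗ[ZMod 2] V)}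

/-- the perpendicular parts are anisotropic -/
def Ani (q : V → ZMod 2) (b : LinearMap.BilinForm (ZMod 2) V) (O : Set V)
    (X : V → Subgroup (V ≃ₗ[ZMod 2] V)) : Prop :=
  ∀ a ∈ O, ∀ c ∈ O, b a c = 1 → ∀ v, RR q b X c v → b a v = 0 → v ≠ 0 → q v = 1

namespace TFam

variable {a c v n m : V} {x y z : V ≃ₗ[ZMod 2] V}

/-- the product of the two transvections -/
theorem cube (F : TFam q b H O W X) (ha : a ∈ O) (hc : c ∈ O) (hac : b a c = 1) (hn : RR q b X a n)
    (hcn : b c n = 0) (hqn : q n = 1) (hm : RR q b X c m) (ham : b a m = 0) (hqm : q m = 1)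
    (hnm : b n m = 0) :
    ∃ h ∈ H, (∀ w, h w = w + b n w • n + b m w • m) ∧ h a = a ∧ h c = c := by
  obtain ⟨han, g, hg, hg'⟩ := hn
  obtain ⟨hcm, k, hk, hk'⟩ := hm
  have hgH := F.X_H ha hg
  have hkH := F.X_H hc hk
  have key : ∀ w, (g * k * (g * k) * (g * k)) w = w + b n w • n + b m w • m := by
    intro w
    simp only [mul_app, hg', hk']
    exact F.six_sg hqn hqm hac han ham hcn hcm hnm w
  refine ⟨g * k * (g * k) * (g * k), H.mul_mem (H.mul_mem (H.mul_mem hgH hkH) (H.mul_mem hgH hkH))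
    (H.mul_mem hgH hkH), key, ?_, ?_⟩
  · rw [key, F.comm n a, han, F.comm m a, ham]; simp
  · rw [key, F.comm n c, hcn, F.comm m c, hcm]; simp

/-- (N4), first step -/
theorem perp_of_perp (F : TFam q b H O W X) (hN : Ani q b O X) (ha : a ∈ O) (hc : c ∈ O)
    (hac : b a c = 1) (hn : RR q b X a n) (hcn : b c n = 0) (hn0 : n ≠ 0)
    (hm : RR q b X c m) (ham : b a m = 0) (hm0 : m ≠ 0) (hnm : b n m = 0) (hne : n ≠ m) {n' : V}
    (hn' : RR q b X a n') : b m n' = 0 := by
  have hca : b c a = 1 := by rw [F.comm]; exact hac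
  have hqn : q n = 1 := hN c hc a ha hca n hn hcn hn0
  have hqm : q m = 1 := hN a ha c hc hac m hm ham hm0
  obtain ⟨h, hh, he, hha, hhc⟩ := F.cube ha hc hac hn hcn hqn hm ham hqm hnm
  rcases zm (b m n') with h1 | h1
  · exact h1
  · exfalso
    have h2 := F.RR_map hh ha hn'
    rw [hha, he, h1, one_smul] at h2
    have hsm : RR q b X a (b n n' • n) := by
      rcases zm (b n n') with h3 | h3 <;> rw [h3]
      · rw [zero_smul]; exact F.RR_zero
      · rw [one_smul]; exact hn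
    have h3 : RR q b X a m := by
      have e : m = (n' + b n n' • n + m) + (n' + b n n' • n) := by v2
      rw [e]; exact F.RR_add h2 (F.RR_add hn' hsm)
    have h4 := hN c hc a ha hca (n + m) (F.RR_add hn h3) (by rw [map_add, hcn, hm.1, add_zero])
      (fun h => hne (eq_of_add h))
    rw [F.q_add, hqn, hqm, hnm] at h4
    exact absurd h4 (by decide)

/-- a common anisotropic plane for some pair -/
theorem common (F : TFam q b H O W X) (hN : Ani q b O X) {n1 n2 m1 m2 : V} (ha : a ∈ O) (hc : c ∈ O)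
    (hac : b a c = 1) (hn1 : RR q b X a n1) (hn2 : RR q b X a n2) (hc1 : b c n1 = 0) (hc2 : b c n2 = 0)
    (h12 : b n1 n2 = 1) (hm1 : RR q b X c m1) (hm2 : RR q b X c m2) (ha1 : b a m1 = 0)
    (ha2 : b a m2 = 0) (h12' : b m1 m2 = 1) :
    ∃ a ∈ O, ∃ c ∈ O, b a c = 1 ∧ ∃ n1 n2, RR q b X a n1 ∧ RR q b X a n2 ∧ RR q b X c n1 ∧
      RR q b X c n2 ∧ b n1 n2 = 1 := by
  have hca : b c a = 1 := by rw [F.comm]; exact hac
  have hne : ∀ s t, b s t = 1 → s ≠ 0 := by
    rintro s t h1 rfl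
    rw [map_zero, LinearMap.zero_apply] at h1
    exact zero_ne_one h1
  have h21 : b n2 n1 = 1 := by rw [F.comm]; exact h12
  have h21' : b m2 m1 = 1 := by rw [F.comm]; exact h12'
  by_cases hex : ∃ n m, RR q b X a n ∧ b c n = 0 ∧ n ≠ 0 ∧ RR q b X c m ∧ b a m = 0 ∧ m ≠ 0 ∧
      b n m = 0 ∧ n ≠ m
  · obtain ⟨n, m, hn, hcn, hn0, hm, ham, hm0, hnm, hnem⟩ := hex
    have hmn : b m n = 0 := by rw [F.comm]; exact hnm
    have hP : ∀ n', RR q b X a n' → b m n' = 0 := fun n' hn' =>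
      F.perp_of_perp hN ha hc hac hn hcn hn0 hm ham hm0 hnm hnem hn'
    -- `R'_a ⊥ R'_c`
    have hPP : ∀ n', RR q b X a n' → b c n' = 0 → n' ≠ 0 → ∀ m', RR q b X c m' → b n' m' = 0 := by
      intro n' hn' hcn' hn0' m' hm'
      apply F.perp_of_perp hN hc ha hca hm ham hm0 hn' hcn' hn0' (hP n' hn') ?_ hm'
      rintro rfl
      -- `m ∈ R'_a` and `m ⊥ R'_a`
      have h1 := hP n1 hn1
      have h4 : q m = 1 := hN c hc a ha hca m hn' hcn' hn0'
      have h5 : q n1 = 1 := hN c hc a ha hca n1 hn1 hc1 (hne _ _ h12)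
      have h6 : m + n1 = 0 := by
        by_contra h6
        have h7 := hN c hc a ha hca (m + n1) (F.RR_add hn' hn1) (by rw [map_add, hcn', hc1, add_zero]) h6
        rw [F.q_add, h4, h5, h1] at h7
        exact absurd h7 (by decide)
      have h7 := hP n2 hn2
      rw [eq_of_add h6, h12] at h7
      exact one_ne_zero h7
    -- the pair `(c, c + n + a)`
    obtain ⟨han1, g, hg, hg'⟩ := hn1
    have hgH := F.X_H ha hg
    have hqn1 : q n1 = 1 := hN c hc a ha hca n1 ⟨han1, g, hg, hg'⟩ hc1 (hne _ _ h12)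
    have hgc : g c = c + n1 + a := by
      rw [hg', sg_one' hqn1, F.comm n1 c, hc1, hac, zero_smul, add_zero, one_smul, one_smul]
    have hgm : ∀ m', RR q b X c m' → b a m' = 0 → g m' = m' := by
      intro m' h1 h2
      rw [hg', sg_fix h2 (hPP n1 ⟨han1, g, hg, hg'⟩ hc1 (hne _ _ h12) m' h1)]
    have hO := F.stable g hgH c hc
    refine ⟨c, hc, g c, hO, ?_, m1, m2, hm1, hm2, ?_, ?_, h12'⟩
    · rw [hgc, map_add, map_add, F.self, hc1, hca]; decide
    · have := F.RR_map hgH hc hm1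
      rwa [hgm m1 hm1 ha1] at this
    · have := F.RR_map hgH hc hm2
      rwa [hgm m2 hm2 ha2] at this
  · push Not at hex
    have hsub : ∀ m, RR q b X c m → b a m = 0 → m ≠ 0 → RR q b X a m := by
      intro m hm ham hm0
      rcases zm (b n1 m) with h1 | h1
      · rw [← hex n1 m hn1 hc1 (hne _ _ h12) hm ham hm0 h1]; exact hn1
      rcases zm (b n2 m) with h2 | h2
      · rw [← hex n2 m hn2 hc2 (hne _ _ h21) hm ham hm0 h2]; exact hn2
      have h3 : b (n1 + n2) m = 0 := by rw [ladd, h1, h2]; decide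
      have h4 : n1 + n2 ≠ 0 := by
        intro h4
        have := eq_of_add h4
        rw [this, F.self] at h12
        exact zero_ne_one h12
      rw [← hex (n1 + n2) m (F.RR_add hn1 hn2) (by rw [map_add, hc1, hc2, add_zero]) h4 hm ham hm0 h3]
      exact F.RR_add hn1 hn2
    exact ⟨a, ha, c, hc, hac, m1, m2, hsub m1 hm1 ha1 (hne _ _ h12'), hsub m2 hm2 ha2 (hne _ _ h21'),
      hm1, hm2, h12'⟩

/-- (N4), second step -/
theorem no_common (F : TFam q b H O W X) (hT : ∀ a ∈ O, ∃ x ∈ X a, ¬ XS b X a x) (hN : Ani q b O X)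
    {n1 n2 : V} (ha : a ∈ O) (hc : c ∈ O)
    (hac : b a c = 1) (hn1 : RR q b X a n1) (hn2 : RR q b X a n2) (hm1 : RR q b X c n1)
    (hm2 : RR q b X c n2) (h12 : b n1 n2 = 1) : False := by
  have hca : b c a = 1 := by rw [F.comm]; exact hac
  have h21 : b n2 n1 = 1 := by rw [F.comm]; exact h12
  have hne : ∀ s t, b s t = 1 → s ≠ 0 := by
    rintro s t h1 rfl
    rw [map_zero, LinearMap.zero_apply] at h1
    exact zero_ne_one h1
  have hq1 : q n1 = 1 := hN c hc a ha hca n1 hn1 hm1.1 (hne _ _ h12)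
  have hq2 : q n2 = 1 := hN c hc a ha hca n2 hn2 hm2.1 (hne _ _ h21)
  -- every element times a Siegel element fixes `n1`, `n2`
  obtain ⟨u1, hu1, hu1'⟩ := hn1.2
  obtain ⟨u2, hu2, hu2'⟩ := hn2.2
  have hS1 := F.RR_XS hu1 hu1'
  have hS2 := F.RR_XS hu2 hu2'
  have v11 : u1 n1 = n1 := by rw [hu1', sg_perp hn1.1, F.self, zero_smul, add_zero]
  have v12 : u1 n2 = n2 + a := by rw [hu1', sg_perp hn2.1, h12, one_smul]
  have v21 : u2 n1 = n1 + a := by rw [hu2', sg_perp hn1.1, h21, one_smul]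
  have v22 : u2 n2 = n2 := by rw [hu2', sg_perp hn2.1, F.self, zero_smul, add_zero]
  have hmove : ∀ x ∈ X a, ∃ s ∈ X a, XS b X a s ∧ (s * x) n1 = n1 ∧ (s * x) n2 = n2 := by
    intro x hx
    have e1 : ∀ u : V, u + a + a = u := fun u => by v2
    rcases (F.RR_NN ha hn1).2 x hx with h1 | h1 <;> rcases (F.RR_NN ha hn2).2 x hx with h2 | h2
    · exact ⟨1, (X a).one_mem, ⟨(X a).one_mem, fun w _ => Or.inl rfl⟩, by rw [one_mul, h1],
        by rw [one_mul, h2]⟩
    · refine ⟨u1, hu1, hS1, by rw [mul_app, h1, v11], ?_⟩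
      rw [mul_app, h2, map_add, v12, F.X_fix a ha u1 hu1]; v2
    · refine ⟨u2, hu2, hS2, ?_, by rw [mul_app, h2, v22]⟩
      rw [mul_app, h1, map_add, v21, F.X_fix a ha u2 hu2]; v2
    · refine ⟨u1 * u2, (X a).mul_mem hu1 hu2, ?_, ?_, ?_⟩
      · apply F.RR_XS (r := n1 + n2) ((X a).mul_mem hu1 hu2)
        intro w
        rw [mul_app, hu1', hu2', F.sg_sg hn1.1 hn2.1]
      · rw [mul_app, mul_app, h1, map_add, map_add, v21, map_add, v11, F.X_fix a ha u2 hu2,
          F.X_fix a ha u1 hu1]; v2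
      · rw [mul_app, mul_app, h2, map_add, map_add, v22, v12, F.X_fix a ha u2 hu2,
          F.X_fix a ha u1 hu1]; v2
  -- an element of `X_0` with `g = 1`
  obtain ⟨x, hx, hx1, hx2, hg⟩ : ∃ x ∈ X a, x n1 = n1 ∧ x n2 = n2 ∧ b c (x c) = 1 := by
    by_contra hcon
    push Not at hcon
    have h0 : ∀ x ∈ X a, x n1 = n1 → x n2 = n2 → b c (x c) = 0 := by
      intro x hx h1 h2
      rcases zm (b c (x c)) with h3 | h3
      · exact h3
      · exact absurd h3 (hcon x hx h1 h2)
    obtain ⟨x, hx, hxS⟩ := hT a ha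
    obtain ⟨y, hy, z, hz, h1⟩ := F.exists_tri ha hx hac hxS
    obtain ⟨s1, hs1, hS1, f11, f12⟩ := hmove y hy
    obtain ⟨s2, hs2, hS2, f21, f22⟩ := hmove x hx
    obtain ⟨s3, hs3, hS3, f31, f32⟩ := hmove z hz
    have m1 := (X a).mul_mem hs1 hy
    have m2 := (X a).mul_mem hs2 hx
    have m3 := (X a).mul_mem hs3 hz
    have h2 : tri b c (s1 * y) (s2 * x) (s3 * z) = 1 := by
      rw [F.tri_mul1 ha hs1 hy m2 m3, F.XS_tri ha hS1 m2 m3, zero_add, F.tri_mul2 ha hy hs2 hx m3,
        F.tri_12 ha hy hs2, F.XS_tri ha hS2 hy m3, zero_add, F.tri_mul3 ha hy hx hs3 hz,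
        F.tri_13 ha hx (x := y) (z := s3), F.XS_tri ha hS3 hx hy, zero_add, h1]
    have hfix : ∀ {s t : V ≃ₗ[ZMod 2] V} {w : V}, s w = w → t w = w → (s * t) w = w := by
      intro s t w h3 h4; rw [mul_app, h4, h3]
    rw [F.tri_g ha m1 m2 m3, h0 _ m1 f11 f12, h0 _ m2 f21 f22, h0 _ m3 f31 f32,
      h0 _ ((X a).mul_mem m1 m2) (hfix f11 f21) (hfix f12 f22),
      h0 _ ((X a).mul_mem m1 m3) (hfix f11 f31) (hfix f12 f32),
      h0 _ ((X a).mul_mem m2 m3) (hfix f21 f31) (hfix f22 f32),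
      h0 _ ((X a).mul_mem m1 ((X a).mul_mem m2 m3)) (hfix f11 (hfix f21 f31))
        (hfix f12 (hfix f22 f32))] at h2
    exact absurd h2 (by decide)
  have hx1' : x c + c ∉ W a := by
    intro h
    have h1 := F.inj a ha x hx c hac h
    rw [h1, one_app, F.self] at hg
    exact zero_ne_one hg
  have h3 : q (n1 + n2) = 1 := by rw [F.q_add, hq1, hq2, h12]; decide
  have hperp : ∀ w ∈ W a, b (x c + c) w = 0 := by
    intro w hw
    rcases zm (b (x c + c) w) with h1 | h1
    · exact h1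
    · exfalso
      have t1 := F.tn ha hc hm1 hn1.1 hq1 hx hx1 hg hw
      have t2 := F.tn ha hc hm2 hn2.1 hq2 hx hx2 hg hw
      have t3 := F.tn ha hc (F.RR_add hm1 hm2) (by rw [map_add, hn1.1, hn2.1, add_zero]) h3 hx
        (by rw [map_add, hx1, hx2]) hg hw
      rw [h1, one_smul] at t1 t2 t3
      rcases zm (b n1 w) with h4 | h4
      · rw [h4, zero_smul, add_zero] at t1; exact hx1' t1
      rcases zm (b n2 w) with h5 | h5
      · rw [h5, zero_smul, add_zero] at t2; exact hx1' t2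
      rw [ladd, h4, h5, one_add, zero_smul, add_zero] at t3
      exact hx1' t3
  have hNN := F.NN_orth ha hperp
  have hXS := F.XS_of_NN ha hx hac (by rw [add_self]; exact (W a).zero_mem) hNN
  have hRR := F.RR_of_XS ha hXS hac
  have hsg := F.XS_eq_sg ha hXS hac
  have e1 : b (x c + c) n1 = 0 := by
    have h4 := hsg n1
    rw [hx1, sg_perp hn1.1] at h4
    rcases zm (b (x c + c) n1) with h5 | h5
    · exact h5
    · rw [h5, one_smul] at h4
      exact absurd (left_eq_add.1 h4) (F.zero a ha)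
  have e2 : b (x c + c) n2 = 0 := by
    have h4 := hsg n2
    rw [hx2, sg_perp hn2.1] at h4
    rcases zm (b (x c + c) n2) with h5 | h5
    · exact h5
    · rw [h5, one_smul] at h4
      exact absurd (left_eq_add.1 h4) (F.zero a ha)
  have hcr : b c (x c + c + a) = 0 := by rw [map_add, map_add, hg, F.self, hca]; decide
  have hRR' := F.RR_add hRR (F.RR_a ha)
  have e1' : b (x c + c + a) n1 = 0 := by rw [ladd, e1, hn1.1, add_zero]
  have e2' : b (x c + c + a) n2 = 0 := by rw [ladd, e2, hn2.1, add_zero]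
  by_cases h0 : x c + c + a = 0
  · apply hx1'
    rw [eq_of_add h0]; exact F.self_W a ha
  · have h4 := hN c hc a ha hca _ hRR' hcr h0
    have h5 : x c + c + a + n1 ≠ 0 := by
      intro h5
      rw [eq_of_add h5, h12] at e2'
      exact one_ne_zero e2'
    have h6 := hN c hc a ha hca _ (F.RR_add hRR' hn1) (by rw [map_add, hcr, hm1.1, add_zero]) h5
    rw [F.q_add, h4, hq1, e1'] at h6
    exact absurd h6 (by decide)

/-- in the anisotropic case `RR a` has order four -/
theorem four_of_ani (F : TFam q b H O W X) (hT : ∀ a ∈ O, ∃ x ∈ X a, ¬ XS b X a x)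
    (hR : ∀ a ∈ O, ∃ r, RR q b X a r ∧ r ≠ 0 ∧ r ≠ a) (hN : Ani q b O X) (ha : a ∈ O) :
    ∃ r, Four q b X a r := by
  obtain ⟨r, hr, hr0, hra⟩ := hR a ha
  by_contra hcon
  push Not at hcon
  have h1 : ¬ Four q b X a r := hcon r
  rw [Four] at h1
  push Not at h1
  obtain ⟨s, hs, hs0, hsa, hsr, hsra⟩ := h1 hr hr0 hra
  obtain ⟨c, hc, hca⟩ : ∃ c ∈ O, b c a = 1 := by
    by_contra h2
    push Not at h2
    apply F.zero a ha
    apply F.span
    intro c hc
    rcases zm (b c a) with h3 | h3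
    · exact h3
    · exact absurd h3 (h2 c hc)
  have hac : b a c = 1 := by rw [F.comm]; exact hca
  -- the perpendicular part
  have key : ∃ n1 n2, RR q b X a n1 ∧ RR q b X a n2 ∧ b c n1 = 0 ∧ b c n2 = 0 ∧ b n1 n2 = 1 := by
    have h2 : ∀ t, RR q b X a t → RR q b X a (t + b c t • a) ∧ b c (t + b c t • a) = 0 := by
      intro t ht
      rcases zm (b c t) with h3 | h3 <;> rw [h3]
      · rw [zero_smul, add_zero]; exact ⟨ht, h3⟩
      · rw [one_smul, map_add, h3, hca]
        exact ⟨F.RR_add ht (F.RR_a ha), by decide⟩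
    obtain ⟨k1, k2⟩ := h2 r hr
    obtain ⟨k3, k4⟩ := h2 s hs
    refine ⟨_, _, k1, k3, k2, k4, ?_⟩
    have hz : ∀ t : ZMod 2, t • a = 0 ∨ t • a = a := by
      intro t
      rcases zm t with rfl | rfl
      · left; rw [zero_smul]
      · right; rw [one_smul]
    have n1 : r + b c r • a ≠ 0 := by
      intro h
      rcases hz (b c r) with h3 | h3 <;> rw [h3] at h
      · rw [add_zero] at h; exact hr0 h
      · exact hra (eq_of_add h)
    have n2 : s + b c s • a ≠ 0 := by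
      intro h
      rcases hz (b c s) with h3 | h3 <;> rw [h3] at h
      · rw [add_zero] at h; exact hs0 h
      · exact hsa (eq_of_add h)
    have n3 : (r + b c r • a) + (s + b c s • a) ≠ 0 := by
      intro h
      have h4 : s = r + (b c r • a + b c s • a) := by
        apply eq_of_add
        calc s + (r + (b c r • a + b c s • a)) = (r + b c r • a) + (s + b c s • a) := by abel
          _ = 0 := h
      rcases hz (b c r) with h5 | h5 <;> rcases hz (b c s) with h6 | h6 <;> rw [h5, h6] at h4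
      · rw [add_zero, add_zero] at h4; exact hsr h4
      · rw [zero_add] at h4; exact hsra h4
      · rw [add_zero] at h4; exact hsra h4
      · rw [add_self, add_zero] at h4; exact hsr h4
    have q1 := hN c hc a ha hca _ k1 k2 n1
    have q2 := hN c hc a ha hca _ k3 k4 n2
    have q3 := hN c hc a ha hca _ (F.RR_add k1 k3) (by rw [map_add, k2, k4, add_zero]) n3
    rw [F.q_add, q1, q2] at q3
    rcases zm (b (r + b c r • a) (s + b c s • a)) with h4 | h4
    · rw [h4] at q3; exact absurd q3 (by decide)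
    · exact h4
  obtain ⟨n1, n2, hn1, hn2, hc1, hc2, h12⟩ := key
  obtain ⟨h, hh, hhc⟩ := F.trans a ha c hc
  have r1 := F.RR_map hh ha hn1
  have r2 := F.RR_map hh ha hn2
  have r12 : b (h n1) (h n2) = 1 := by rw [F.b_H hh]; exact h12
  rw [hhc] at r1 r2
  have h2 : ∀ t, RR q b X c t → RR q b X c (t + b a t • c) ∧ b a (t + b a t • c) = 0 := by
    intro t ht
    rcases zm (b a t) with h3 | h3 <;> rw [h3]
    · rw [zero_smul, add_zero]; exact ⟨ht, h3⟩
    · rw [one_smul, map_add, h3, hac]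
      exact ⟨F.RR_add ht (F.RR_a hc), by decide⟩
  obtain ⟨k1, k2⟩ := h2 _ r1
  obtain ⟨k3, k4⟩ := h2 _ r2
  have k5 : b (h n1 + b a (h n1) • c) (h n2 + b a (h n2) • c) = 1 := by
    rw [ladd, map_add, map_add, map_smul, map_smul, map_smul, LinearMap.smul_apply, LinearMap.smul_apply,
      F.comm (h n1) c, r1.1, r2.1, F.self, r12]; simp
  obtain ⟨a', ha', c', hc', hac', m1, m2, e1, e2, e3, e4, e5⟩ :=
    F.common hN ha hc hac hn1 hn2 hc1 hc2 h12 k1 k3 k2 k4 k5
  exact F.no_common hT hN ha' hc' hac' e1 e2 e3 e4 e5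

end TFam

end Cfsg.Agent.Omega.EH3.TCL
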