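import Cfsg.Agent.Omega.EH3.TCL.Kill

/-!
# THEOREM 2C: the anisotropic case (helper465)
-/

set_option autoImplicit false

namespace Cfsg.Agent.Omega.EH3.TCL

open Module Cfsg.Agent.LargeExtra.SiegFam Cfsg.Agent.LargeExtra.SiegFam.Lin

variable {V : Type*} [AddCommGroup V] [Module (ZMod 2) V]
variable {q : V → ZMod 2} {b : LinearMap.BilinForm (ZMod 2) V} {H : Subgroup (V ≃ₗ[ZMod 2] V)} {O : Set V}
  {W : V → Submodule (ZMod 2) V} {X : V → Subgroup (V ≃ₗ[ZMod 2] V)}

namespace TFam

variable {a c v n m : V} {x y z : V ≃ₗ[ZMod 2] V}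

/-- `tri` as the third polarisation of `g x = b c (x c)` -/
theorem tri_g (F : TFam q b H O W X) (ha : a ∈ O) (hx : x ∈ X a) (hy : y ∈ X a) (hz : z ∈ X a) (c : V) :
    tri b c x y z = b c (x c) + b c (y c) + b c (z c) + b c ((x * y) c) + b c ((x * z) c) +
      b c ((y * z) c) + b c ((x * (y * z)) c) := by
  have e1 : b (y (x c)) (z c) = b c ((x * (y * z)) c) := by
    rw [mul_app, mul_app, F.b_adj ha hy, F.b_adj ha hx]
  have e2 : b (y c) (z c) = b c ((y * z) c) := by rw [mul_app, F.b_adj ha hy]
  have e3 : b (x c) (z c) = b c ((x * z) c) := by rw [mul_app, F.b_adj ha hx]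
  have e4 : b (y (x c)) c = b c ((x * y) c) := by
    rw [mul_app, F.comm, F.X_comm a ha x hx y hy]
  have e5 : b (y c) c = b c (y c) := F.comm _ _
  have e6 : b (x c) c = b c (x c) := F.comm _ _
  rw [tri]
  simp only [map_add, LinearMap.add_apply]
  rw [e1, e2, e3, e4, e5, e6, F.self]
  abel

/-- a product of three Siegel elements -/
theorem three_sg (F : TFam q b H O W X) {c c' m : V} (hm : q m = 1)
    (hcc : b c c' = 1) (hcm : b c m = 0) (hcm' : b c' m = 0) (w : V) :
    sg q b c m (sg q b c' m (sg q b c m w)) = w + b (c' + c) w • (c' + c) + b m w • m := by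
  have h1 : b m c = 0 := by rw [F.comm]; exact hcm
  have h2 : b m c' = 0 := by rw [F.comm]; exact hcm'
  have h3 : b c' c = 1 := by rw [F.comm]; exact hcc
  have h4 := F.self m
  have h5 := F.self c
  have h6 := F.self c'
  simp only [sg, hm, map_add, map_smul, LinearMap.add_apply, h1, h2, h3, h4, h5, h6, hcc, hcm, hcm',
    smul_eq_mul, mul_zero, mul_one, add_zero, one_mul]
  rcases zm (b c w) with h7 | h7 <;> rcases zm (b c' w) with h8 | h8 <;>
    rcases zm (b m w) with h9 | h9 <;> rw [h7, h8, h9] <;>
    simp only [zero_smul, one_smul, add_zero, zero_add, one_add] <;> v2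

/-- (TN) -/
theorem tn (F : TFam q b H O W X) (ha : a ∈ O) (hc : c ∈ O) (hm : RR q b X c m)
    (ham : b a m = 0) (hqm : q m = 1) (hx : x ∈ X a) (hxm : x m = m) (hg : b c (x c) = 1)
    {w : V} (hw : w ∈ W a) : b (x c + c) w • (x c + c) + b m w • m ∈ W a := by
  obtain ⟨hcm, g, hg1, hg'⟩ := hm
  have hxi : ∀ w, x⁻¹ w = x w := by
    intro w
    rw [← F.X_sq a ha x hx w, app_inv, F.X_sq a ha x hx]
  have hcm' : b (x c) m = 0 := by
    rw [← hxm, F.b_X ha hx]; exact hcm
  have key : ∀ w, (g * (x * g * x⁻¹) * g) w = w + b (x c + c) w • (x c + c) + b m w • m := by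
    intro w
    rw [mul_app, mul_app, mul_app, mul_app, hxi, hg', hg', hg', F.map_sg (F.X_H ha hx), F.X_sq a ha x hx,
      hxm]
    exact F.three_sg hqm hg hcm hcm' w
  have hH : g * (x * g * x⁻¹) * g ∈ H := H.mul_mem (H.mul_mem (F.X_H hc hg1) (H.mul_mem
    (H.mul_mem (F.X_H ha hx) (F.X_H hc hg1)) (H.inv_mem (F.X_H ha hx)))) (F.X_H hc hg1)
  have hfa : (g * (x * g * x⁻¹) * g) a = a := by
    rw [key, F.comm _ a, F.b_delta ha hx, F.comm m a, ham]; simp
  have h1 := F.W_map _ hH a ha w hw
  rw [hfa, key] at h1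
  have e : b (x c + c) w • (x c + c) + b m w • m =
    (w + b (x c + c) w • (x c + c) + b m w • m) + w := by v2
  rw [e]
  exact (W a).add_mem h1 hw

theorem sg_one' (hn : q n = 1) (w : V) :
    sg q b a n w = w + b n w • a + b a w • n + b a w • a := by
  rw [sg, hn, one_mul]

/-- the cube of the product of two Siegel elements -/
theorem six_sg (F : TFam q b H O W X) (hn : q n = 1) (hm : q m = 1)
    (hac : b a c = 1) (han : b a n = 0) (ham : b a m = 0) (hcn : b c n = 0) (hcm : b c m = 0)
    (hnm : b n m = 0) (w : V) :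
    sg q b a n (sg q b c m (sg q b a n (sg q b c m (sg q b a n (sg q b c m w))))) =
      w + b n w • n + b m w • m := by
  have h1 : b c a = 1 := by rw [F.comm]; exact hac
  have h2 : b n a = 0 := by rw [F.comm]; exact han
  have h3 : b m a = 0 := by rw [F.comm]; exact ham
  have h4 : b n c = 0 := by rw [F.comm]; exact hcn
  have h5 : b m c = 0 := by rw [F.comm]; exact hcm
  have h6 : b m n = 0 := by rw [F.comm]; exact hnm
  have s1 := F.self a
  have s2 := F.self c
  have s3 := F.self n
  have s4 := F.self m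
  rw [sg_one' hm w]
  generalize hw1 : w + b m w • c + b c w • m + b c w • c = w1
  have a1 : b a w1 = b a w + b m w + b c w := by
    rw [← hw1]; simp only [map_add, map_smul, hac, ham, smul_eq_mul, mul_one, mul_zero, add_zero]
  have c1 : b c w1 = b c w := by
    rw [← hw1]; simp only [map_add, map_smul, s2, hcm, smul_eq_mul, mul_zero, add_zero]
  have n1 : b n w1 = b n w := by
    rw [← hw1]; simp only [map_add, map_smul, h4, hnm, smul_eq_mul, mul_zero, add_zero]
  have m1 : b m w1 = b m w := by
    rw [← hw1]; simp only [map_add, map_smul, h5, s4, smul_eq_mul, mul_zero, add_zero]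
  rw [sg_one' hn w1, a1, n1]
  generalize hw2 : w1 + b n w • a + (b a w + b m w + b c w) • n + (b a w + b m w + b c w) • a = w2
  have a2 : b a w2 = b a w + b m w + b c w := by
    rw [← hw2]; simp only [map_add, map_smul, a1, s1, han, smul_eq_mul, mul_zero, add_zero]
  have c2 : b c w2 = b c w + b n w + (b a w + b m w + b c w) := by
    rw [← hw2]; simp only [map_add, map_smul, c1, h1, hcn, smul_eq_mul, mul_one, mul_zero, add_zero]
  have n2 : b n w2 = b n w := by
    rw [← hw2]; simp only [map_add, map_smul, n1, h2, s3, smul_eq_mul, mul_zero, add_zero]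
  have m2 : b m w2 = b m w := by
    rw [← hw2]; simp only [map_add, map_smul, m1, h3, h6, smul_eq_mul, mul_zero, add_zero]
  rw [sg_one' hm w2, c2, m2]
  generalize hw3 : w2 + b m w • c + (b c w + b n w + (b a w + b m w + b c w)) • m +
    (b c w + b n w + (b a w + b m w + b c w)) • c = w3
  have a3 : b a w3 = b a w + b m w + b c w + b m w + (b c w + b n w + (b a w + b m w + b c w)) := by
    rw [← hw3]; simp only [map_add, map_smul, a2, hac, ham, smul_eq_mul, mul_one, mul_zero, add_zero]
  have n3 : b n w3 = b n w := by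
    rw [← hw3]; simp only [map_add, map_smul, n2, h4, hnm, smul_eq_mul, mul_zero, add_zero]
  have c3 : b c w3 = b c w + b n w + (b a w + b m w + b c w) := by
    rw [← hw3]; simp only [map_add, map_smul, c2, s2, hcm, smul_eq_mul, mul_zero, add_zero]
  have m3 : b m w3 = b m w := by
    rw [← hw3]; simp only [map_add, map_smul, m2, h5, s4, smul_eq_mul, mul_zero, add_zero]
  rw [sg_one' hn w3, a3, n3]
  generalize hw4 : w3 + b n w • a +
    (b a w + b m w + b c w + b m w + (b c w + b n w + (b a w + b m w + b c w))) • n +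
    (b a w + b m w + b c w + b m w + (b c w + b n w + (b a w + b m w + b c w))) • a = w4
  have a4 : b a w4 = b a w + b m w + b c w + b m w + (b c w + b n w + (b a w + b m w + b c w)) := by
    rw [← hw4]; simp only [map_add, map_smul, a3, s1, han, smul_eq_mul, mul_zero, add_zero]
  have c4 : b c w4 = b c w + b n w + (b a w + b m w + b c w) + b n w +
      (b a w + b m w + b c w + b m w + (b c w + b n w + (b a w + b m w + b c w))) := by
    rw [← hw4]; simp only [map_add, map_smul, c3, h1, hcn, smul_eq_mul, mul_one, mul_zero, add_zero]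
  have n4 : b n w4 = b n w := by
    rw [← hw4]; simp only [map_add, map_smul, n3, h2, s3, smul_eq_mul, mul_zero, add_zero]
  have m4 : b m w4 = b m w := by
    rw [← hw4]; simp only [map_add, map_smul, m3, h3, h6, smul_eq_mul, mul_zero, add_zero]
  rw [sg_one' hm w4, c4, m4]
  generalize hw5 : w4 + b m w • c + (b c w + b n w + (b a w + b m w + b c w) + b n w +
      (b a w + b m w + b c w + b m w + (b c w + b n w + (b a w + b m w + b c w)))) • m +
    (b c w + b n w + (b a w + b m w + b c w) + b n w +
      (b a w + b m w + b c w + b m w + (b c w + b n w + (b a w + b m w + b c w)))) • c = w5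
  have a5 : b a w5 = b a w4 + b m w + (b c w + b n w + (b a w + b m w + b c w) + b n w +
      (b a w + b m w + b c w + b m w + (b c w + b n w + (b a w + b m w + b c w)))) := by
    rw [← hw5]; simp only [map_add, map_smul, hac, ham, smul_eq_mul, mul_one, mul_zero, add_zero]
  have n5 : b n w5 = b n w := by
    rw [← hw5]; simp only [map_add, map_smul, n4, h4, hnm, smul_eq_mul, mul_zero, add_zero]
  rw [sg_one' hn w5, a5, n5, a4, ← hw5, ← hw4, ← hw3, ← hw2, ← hw1]
  rcases zm (b a w) with h7 | h7 <;> rcases zm (b c w) with h8 | h8 <;>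
    rcases zm (b m w) with h9 | h9 <;> rcases zm (b n w) with h10 | h10 <;> rw [h7, h8, h9, h10] <;>
    simp only [zero_smul, one_smul, add_zero, zero_add, one_add] <;> v2

end TFam

end Cfsg.Agent.Omega.EH3.TCL
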