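import Cfsg.Agent.Omega.EH3.TCL.CaseFour

/-!
# THEOREM 2C: the anisotropic case, `|RR a / ⟨a⟩| = 2` (helper465)

`pair_A`: `b n m = 0` is impossible.  `case_C`: `b n m = 1` for all pairs gives a common fixed vector of `X a`
and `X c`.
-/

set_option autoImplicit false

namespace Cfsg.Agent.Omega.EH3.TCL

open Module Cfsg.Agent.LargeExtra.SiegFam Cfsg.Agent.LargeExtra.SiegFam.Lin

variable {V : Type*} [AddCommGroup V] [Module (ZMod 2) V]
variable {q : V → ZMod 2} {b : LinearMap.BilinForm (ZMod 2) V} {H : Subgroup (V ≃ₗ[ZMod 2] V)} {O : Set V}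
  {W : V → Submodule (ZMod 2) V} {X : V → Subgroup (V ≃ₗ[ZMod 2] V)}

namespace TFam

variable {a c v n m : V} {x y z : V ≃ₗ[ZMod 2] V}

theorem not_mem_W (F : TFam q b H O W X) (ha : a ∈ O) (hn : q n = 1) : n ∉ W a := by
  intro h
  rw [F.q_W a ha n h] at hn
  exact zero_ne_one hn

/-- (A) -/
theorem pair_A (F : TFam q b H O W X) (hT : ∀ a ∈ O, ∃ x ∈ X a, ¬ XS b X a x)
    (ha : a ∈ O) (hc : c ∈ O) (hac : b a c = 1) (hn : Four q b X a n) (hcn : b c n = 0) (hqn : q n = 1)
    (hm : RR q b X c m) (ham : b a m = 0) (hqm : q m = 1) (hnm : b n m = 0) : False := by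
  have hca : b c a = 1 := by rw [F.comm]; exact hac
  obtain ⟨u, hu, hu'⟩ := hn.1.2
  have han := hn.1.1
  have hS := F.RR_XS hu hu'
  have hnW := F.not_mem_W ha hqn
  have hmW := F.not_mem_W ha hqm
  -- the position of `n`, `m`
  have hpos : n + m ∈ W a ∨ ((∀ w ∈ W a, b n w = 0) ∧ ∀ w ∈ W a, b m w = 0) := by
    by_cases hnm' : n = m
    · left; rw [hnm', add_self]; exact (W a).zero_mem
    obtain ⟨h, hh, he, hha, -⟩ := F.cube ha hc hac hn.1 hcn hqn hm ham hqm hnm
    have h1 : ∀ w ∈ W a, b n w • n + b m w • m ∈ W a := by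
      intro w hw
      have h2 := F.W_map h hh a ha w hw
      rw [hha, he] at h2
      have e : b n w • n + b m w • m = (w + b n w • n + b m w • m) + w := by v2
      rw [e]; exact (W a).add_mem h2 hw
    by_cases hex : ∃ w ∈ W a, b n w = 1
    · left
      obtain ⟨w, hw, h2⟩ := hex
      have h3 := h1 w hw
      rw [h2, one_smul] at h3
      rcases zm (b m w) with h4 | h4
      · rw [h4, zero_smul, add_zero] at h3; exact absurd h3 hnW
      · rw [h4, one_smul] at h3; exact h3
    · right
      push Not at hex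
      have h2 : ∀ w ∈ W a, b n w = 0 := by
        intro w hw
        rcases zm (b n w) with h3 | h3
        · exact h3
        · exact absurd h3 (hex w hw)
      refine ⟨h2, fun w hw => ?_⟩
      have h3 := h1 w hw
      rw [h2 w hw, zero_smul, zero_add] at h3
      rcases zm (b m w) with h4 | h4
      · exact h4
      · rw [h4, one_smul] at h3; exact absurd h3 hmW
  have hmN : NN b X a m := by
    rcases hpos with h | h
    · have e : m = n + (n + m) := by v2
      rw [e]; exact F.NN_add (F.RR_NN ha hn.1) (F.NN_W ha h)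
    · exact F.NN_orth ha h.2
  have hidx := fix_index hmN (F.X_fix a ha)
  have huc : u c = c + n + a := by
    rw [hu', sg_one' hqn, F.comm n c, hcn, hac, zero_smul, add_zero, one_smul, one_smul]
  -- an element with `g = 1` is `u`
  have key : ∀ x ∈ X a, x m = m → b c (x c) = 1 → x = u := by
    intro x hx hxm hg
    have hxW : x c + c ∉ W a := by
      intro h
      have h1 := F.inj a ha x hx c hac h
      rw [h1, one_app, F.self] at hg
      exact zero_ne_one hg
    have hcase : (x c + c) + n ∈ W a → x = u := by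
      intro h
      have h1 : (x * u) c + c ∈ W a := by
        obtain ⟨w, hw, e⟩ := F.delta_mul_W ha hx hu c
        rw [e, huc]
        have e2 : x c + c + (c + n + a + c) + w = (x c + c + n) + a + w := by v2
        rw [e2]
        exact (W a).add_mem ((W a).add_mem h (F.self_W a ha)) hw
      have h2 := F.inj a ha _ ((X a).mul_mem hx hu) c hac h1
      ext w
      have h3 : ∀ w, x (u w) = w := fun w => by rw [← mul_app, h2]; rfl
      have h4 := h3 (u w)
      rw [F.X_sq a ha u hu] at h4
      exact h4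
    by_cases hex : ∃ w ∈ W a, b (x c + c) w = 1
    · obtain ⟨w, hw, h1⟩ := hex
      have h2 := F.tn ha hc hm ham hqm hx hxm hg hw
      rw [h1, one_smul] at h2
      rcases zm (b m w) with h3 | h3
      · rw [h3, zero_smul, add_zero] at h2; exact absurd h2 hxW
      · rcases hpos with h4 | h4
        · apply hcase
          rw [h3, one_smul] at h2
          have e : x c + c + n = (x c + c + m) + (n + m) := by v2
          rw [e]; exact (W a).add_mem h2 h4
        · rw [h4.2 w hw] at h3; exact absurd h3 (by decide)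
    · push Not at hex
      have h2 : ∀ w ∈ W a, b (x c + c) w = 0 := by
        intro w hw
        rcases zm (b (x c + c) w) with h3 | h3
        · exact h3
        · exact absurd h3 (hex w hw)
      have hXS := F.XS_of_NN ha hx hac (by rw [add_self]; exact (W a).zero_mem) (F.NN_orth ha h2)
      have hRR := F.RR_of_XS ha hXS hac
      rcases hn.2.2.2 _ hRR with h3 | h3 | h3 | h3
      · exfalso; apply hxW; rw [h3]; exact (W a).zero_mem
      · exfalso; apply hxW; rw [h3]; exact F.self_W a ha
      · apply hcase; rw [h3, add_self]; exact (W a).zero_mem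
      · apply hcase; rw [h3]
        have e : n + a + n = a := by v2
        rw [e]; exact F.self_W a ha
  have hum : u m = m := by
    rw [hu', sg_fix ham hnm]
  have hgu : b c (u c) = 1 := by rw [huc, map_add, map_add, F.self, hcn, hca]; decide
  obtain ⟨x, hx, y, hy, z, hz, hxm, hym, h1⟩ := F.pick ha (hT a ha) hac (fun x => x m = m) hidx
  have g0 : ∀ s ∈ X a, s m = m → s ≠ u → b c (s c) = 0 := by
    intro s hs h2 h3
    rcases zm (b c (s c)) with h4 | h4
    · exact h4
    · exact absurd (key s hs h2 h4) h3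
  have t0 : ∀ s ∈ X a, ∀ t ∈ X a, tri b c u s t = 0 := fun s hs t ht => F.XS_tri ha hS hs ht c
  have tone : ∀ s t : V ≃ₗ[ZMod 2] V, tri b c 1 s t = 0 := by
    intro s t
    rw [tri, one_app, add_self, map_zero, add_zero, map_zero, LinearMap.zero_apply]
  have hxy := (X a).mul_mem hx hy
  have txy : tri b c (x * y) y z = 1 := by
    rw [F.tri_mul1 ha hx hy hy hz, F.tri_alt1 ha hy hz, h1, add_zero]
  have nx : x ≠ u := by
    rintro rfl
    rw [t0 y hy z hz] at h1; exact zero_ne_one h1
  have h1y : tri b c y x z = 1 := by rw [F.tri_12 ha hy hx]; exact h1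
  have ny : y ≠ u := by
    rintro rfl
    rw [t0 x hx z hz] at h1y; exact zero_ne_one h1y
  have nxy : x * y ≠ u := by
    intro h
    rw [h, t0 y hy z hz] at txy; exact zero_ne_one txy
  have n1 : ∀ s t : V ≃ₗ[ZMod 2] V, tri b c s t z = 1 → u * s ≠ u := by
    intro s t h2 h3
    have h4 : s = 1 := by
      have := mul_left_cancel (h3.trans (mul_one u).symm)
      exact this
    rw [h4, tone] at h2
    exact zero_ne_one h2
  have hmul : ∀ {s t : V ≃ₗ[ZMod 2] V}, s m = m → t m = m → (s * t) m = m := by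
    intro s t h3 h4; rw [mul_app, h4, h3]
  have h2 := F.tri_g ha hu hx hy c
  rw [t0 x hx y hy, hgu, g0 x hx hxm nx, g0 y hy hym ny,
    g0 _ ((X a).mul_mem hu hx) (hmul hum hxm) (n1 x y h1),
    g0 _ ((X a).mul_mem hu hy) (hmul hum hym) (n1 y x h1y),
    g0 _ hxy (hmul hxm hym) nxy,
    g0 _ ((X a).mul_mem hu hxy) (hmul hum (hmul hxm hym)) (n1 _ y txy)] at h2
  exact absurd h2 (by decide)

/-- the fixed vectors of `X a` are transported -/
theorem fix_map (F : TFam q b H O W X) (ha : a ∈ O) {h : V ≃ₗ[ZMod 2] V} (hh : h ∈ H) {j : V}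
    (hj : ∀ x ∈ X a, x j = j) : ∀ y ∈ X (h a), y (h j) = h j := by
  intro y hy
  have h1 := hj _ (F.X_map' hh ha hy)
  rw [mul_app, mul_app] at h1
  have h2 := congrArg h h1
  rwa [inv_app] at h2

/-- (C) -/
theorem case_C (F : TFam q b H O W X) (hF : ∀ a ∈ O, ∃ r, Four q b X a r) (hN : Ani q b O X)
    (hC : ∀ a ∈ O, ∀ c ∈ O, b a c = 1 → ∀ n m, Four q b X a n → b c n = 0 → Four q b X c m → b a m = 0 →
      b n m = 1) (ha : a ∈ O) (hc : c ∈ O) (hac : b a c = 1) :
    ∃ j, j ≠ 0 ∧ (∀ x ∈ X a, x j = j) ∧ ∀ y ∈ X c, y j = j := by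
  have hca : b c a = 1 := by rw [F.comm]; exact hac
  obtain ⟨n0, hn0⟩ := hF a ha
  obtain ⟨n, hn, hcn, -⟩ := Four.perp F ha hn0 hac
  obtain ⟨m0, hm0⟩ := hF c hc
  obtain ⟨m, hm, ham, -⟩ := Four.perp F hc hm0 hca
  have hqn : q n = 1 := hN c hc a ha hca n hn.1 hcn hn.2.1
  have hqm : q m = 1 := hN a ha c hc hac m hm.1 ham hm.2.1
  have hnm : b n m = 1 := hC a ha c hc hac n m hn hcn hm ham
  have hmn : b m n = 1 := by rw [F.comm]; exact hnm
  obtain ⟨u, hu, hu'⟩ := hn.1.2
  obtain ⟨u', hv, hv'⟩ := hm.1.2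
  have han := hn.1.1
  have hcm := hm.1.1
  have huc : u c = c + n + a := by
    rw [hu', sg_one' hqn, F.comm n c, hcn, hac, zero_smul, add_zero, one_smul, one_smul]
  have hNn := F.RR_NN ha hn.1
  -- step 1
  have st1 : ∀ x ∈ X a, b c (x c) = 1 → b m (x c) = 1 := by
    intro x hx hg
    by_contra h1
    have h1 : b m (x c) = 0 := by
      rcases zm (b m (x c)) with h2 | h2
      · exact h2
      · exact absurd h2 h1
    have hxH := F.X_H ha hx
    have h2 := hC c hc (x c) (F.stable x hxH c hc) hg m (x m) hm (by rw [F.comm]; exact h1)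
      (Four.map F hxH hc hm) (by rw [← F.b_adj ha hx, F.comm]; exact h1)
    rw [F.b_fix_self ha hx ham] at h2
    exact zero_ne_one h2
  -- step 2
  have hxn : ∀ x ∈ X a, b c (x n) = b n (x c) := by
    intro x hx; rw [F.comm c, F.b_adj ha hx]
  have st2g : ∀ x ∈ X a, b c ((x * u) c) = b c (x c) + b n (x c) + 1 := by
    intro x hx
    rw [mul_app, huc, map_add, map_add, map_add, map_add, hxn x hx, F.X_fix a ha x hx, hca]
  have st2t : ∀ x ∈ X a, b m ((x * u) c) = b m (x c) + 1 := by
    intro x hx
    rw [mul_app, huc, map_add, map_add, map_add, map_add, F.X_fix a ha x hx, F.comm m a, ham, add_zero]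
    congr 1
    rcases hNn.2 x hx with h1 | h1
    · rw [h1]; exact hmn
    · rw [h1, map_add, hmn, F.comm m a, ham, add_zero]
  -- step 3
  have st3 : ∀ x ∈ X a, b c (x c) = b m (x c) * (b n (x c) + 1) := by
    intro x hx
    have h1 := st1 x hx
    have h2 := st1 (x * u) ((X a).mul_mem hx hu)
    rw [st2g x hx, st2t x hx] at h2
    revert h1 h2
    generalize b c (x c) = g, b m (x c) = t, b n (x c) = k
    revert g t k; decide
  -- step 4
  obtain ⟨x, hx, hw⟩ := F.surj a ha c hac m ham
  generalize hwd : x c + c + m = w at hw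
  have hxc : x c = c + m + w := by rw [← hwd]; v2
  have e1 : b m w = b m (x c) := by
    rw [hxc, map_add, map_add, F.comm m c, hcm, F.self]; abel
  have e2 : b c w = b c (x c) := by
    rw [hxc, map_add, map_add, hcm, F.self]; abel
  have e3 : b n w = b n (x c) + 1 := by
    rw [hxc, map_add, map_add, F.comm n c, hcn, hnm, zero_add, add_comm 1 (b n w), add_assoc, one_add,
      add_zero]
  have e4 : b c w + b m w = 1 := by
    have h1 := F.q_H x (F.X_H ha hx) c
    rw [hxc, F.q_add, F.q_add, F.q_self hc, hqm, F.q_W a ha w hw, hcm, ladd] at h1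
    revert h1
    generalize b c w = s, b m w = t
    revert s t; decide
  have e5 : b m w = 1 ∧ b c w = 0 ∧ b n w = 0 := by
    have h1 := st3 x hx
    rw [← e1, ← e2] at h1
    revert e3 e4 h1
    generalize b c w = s, b m w = t, b n w = r, b n (x c) = k
    revert s t r k; decide
  obtain ⟨f1, f2, f3⟩ := e5
  -- `x m = m + a`
  have hxm : x m = m + a := by
    have h1 : x m + m = 0 ∨ x m + m = a := by
      apply F.eq_of_perp
      intro t ht
      obtain ⟨y, hy, hy'⟩ := F.surj a ha c hac t ht
      rw [F.tri_rep ha hx hx hy (v := c) (t := m) (by rw [hwd]; exact hw) hy']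
      exact F.tri_alt1 ha hx hy c
    have h2 : b (x m + m) c = 1 := by
      rw [F.b_adj' ha hx, map_add, ← e1, f1, F.comm m c, hcm, add_zero]
    rcases h1 with h3 | h3
    · rw [h3, map_zero, LinearMap.zero_apply] at h2; exact absurd h2 (by decide)
    · calc x m = x m + m + m := by v2
        _ = m + a := by rw [h3]; v2
  -- step 5
  have hkn : b n (x c) = 1 := by
    rw [f3] at e3
    revert e3
    generalize b n (x c) = k
    revert k; decide
  have st5 : ∀ y ∈ X a, b w (y c) = b n (y c) := by
    intro y hy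
    have hxy := (X a).mul_mem hx hy
    have g1 : b c ((x * y) c) = b c (y c) + b m (y c) + b w (y c) := by
      rw [mul_app, ← F.b_adj ha hx, hxc, ladd, ladd]
    have hay : b a (y c) = 1 := by rw [F.b_fix ha hy]; exact hac
    have g2 : b m ((x * y) c) = b m (y c) + 1 := by
      rw [mul_app, ← F.b_adj ha hx, hxm, ladd, hay]
    have g3 : b n ((x * y) c) = b n (y c) + 1 := by
      rw [mul_app, ← F.b_adj ha hx]
      have h2 : b (x n + n) c = 1 := by
        rw [F.b_adj' ha hx, map_add, hkn, F.comm n c, hcn, add_zero]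
      rcases hNn.2 x hx with h3 | h3
      · rw [h3, add_self, map_zero, LinearMap.zero_apply] at h2; exact absurd h2 (by decide)
      · rw [h3, ladd, hay]
    have h1 := st3 _ hxy
    have h2 := st3 y hy
    rw [g1, g2, g3] at h1
    revert h1 h2
    generalize b c (y c) = g, b m (y c) = t, b n (y c) = k, b w (y c) = l
    revert g t k l; decide
  -- step 6
  have hjN : NN b X a (n + w) := F.NN_add hNn (F.NN_W ha hw)
  have hj : ∀ y ∈ X a, y (n + w) = n + w := by
    intro y hy
    have h2 : b (y (n + w) + (n + w)) c = 0 := by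
      rw [F.b_adj' ha hy, ladd, map_add, map_add, st5 y hy, F.comm n c, hcn, F.comm w c, f2, add_zero,
        zadd]
    rcases hjN.2 y hy with h3 | h3
    · exact h3
    · exfalso
      rw [h3] at h2
      have e : n + w + a + (n + w) = a := by v2
      rw [e, hac] at h2
      exact one_ne_zero h2
  -- step 7
  have haw : b a w = 0 := F.perp_W ha hw
  have j1 : b n (n + w) = 0 := by rw [map_add, F.self, f3, add_zero]
  have j2 : b m (n + w) = 0 := by rw [map_add, hmn, f1]; decide
  have j3 : b c (n + w) = 0 := by rw [map_add, hcn, f2, add_zero]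
  have j4 : b a (n + w) = 0 := by rw [map_add, han, haw, add_zero]
  have hj0 : n + w ≠ 0 := by
    intro h
    rw [eq_of_add h, F.q_W a ha w hw] at hqn
    exact zero_ne_one hqn
  refine ⟨n + w, hj0, hj, ?_⟩
  -- step 8
  have uj : u (n + w) = n + w := hj u hu
  have vj : u' (n + w) = n + w := by rw [hv', sg_fix j3 j2]
  have ua : u a = a := F.X_fix a ha u hu
  have un : u n = n := by
    rw [hu', sg_one' hqn, F.self, han, zero_smul, add_zero, zero_smul, add_zero, add_zero]
  have um : u m = m + a := by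
    rw [hu', sg_one' hqn, hnm, ham, one_smul, zero_smul, zero_smul, add_zero, add_zero]
  have va : u' a = a + m + c := by
    rw [hv', sg_one' hqm, F.comm m a, ham, hca, zero_smul, add_zero, one_smul, one_smul]
  have vc : u' c = c := F.X_fix c hc u' hv
  have vm : u' m = m := by
    rw [hv', sg_one' hqm, F.self, hcm, zero_smul, add_zero, zero_smul, add_zero, add_zero]
  have vn : u' n = n + c := by
    rw [hv', sg_one' hqm, hmn, hcn, one_smul, zero_smul, zero_smul, add_zero, add_zero]
  have hmove : (u * u' * (u * u')) a = c := by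
    have t1 : u (a + m + c) = a + m + n + c := by rw [map_add, map_add, ua, um, huc]; v2
    have t2 : u' (a + m + n + c) = a + n + c := by
      rw [map_add, map_add, map_add, va, vm, vn, vc]; v2
    have t3 : u (a + n + c) = c := by rw [map_add, map_add, ua, un, huc]; v2
    rw [mul_app, mul_app, mul_app, va, t1, t2, t3]
  have hfix : (u * u' * (u * u')) (n + w) = n + w := by
    rw [mul_app, mul_app, mul_app, vj, uj, vj, uj]
  have hH : u * u' * (u * u') ∈ H :=
    H.mul_mem (H.mul_mem (F.X_H ha hu) (F.X_H hc hv)) (H.mul_mem (F.X_H ha hu) (F.X_H hc hv))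
  have := F.fix_map ha hH hj
  rw [hmove, hfix] at this
  exact this

/-- the anisotropic case gives common fixed vectors -/
theorem case_N (F : TFam q b H O W X) (hT : ∀ a ∈ O, ∃ x ∈ X a, ¬ XS b X a x)
    (hR : ∀ a ∈ O, ∃ r, RR q b X a r ∧ r ≠ 0 ∧ r ≠ a) (hN : Ani q b O X) :
    (∀ a ∈ O, ∃ r, Four q b X a r) ∧
    ∀ a ∈ O, ∀ c ∈ O, b a c = 1 → ∃ j, j ≠ 0 ∧ (∀ x ∈ X a, x j = j) ∧ ∀ y ∈ X c, y j = j := by
  have hF : ∀ a ∈ O, ∃ r, Four q b X a r := fun a ha => F.four_of_ani hT hR hN ha
  refine ⟨hF, fun a ha c hc hac => F.case_C hF hN ?_ ha hc hac⟩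
  intro a ha c hc hac n m hn hcn hm ham
  have hca : b c a = 1 := by rw [F.comm]; exact hac
  rcases zm (b n m) with h1 | h1
  · exact (F.pair_A hT ha hc hac hn hcn (hN c hc a ha hca n hn.1 hcn hn.2.1) hm.1 ham
      (hN a ha c hc hac m hm.1 ham hm.2.1) h1).elim
  · exact h1

end TFam

end Cfsg.Agent.Omega.EH3.TCL
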