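import Cfsg.Agent.Omega.EH3.TCL.CaseTwo
import Cfsg.Agent.Omega.EH3.TwoC.End

/-!
# THEOREM 2C: the two forms of the linear setting (helper465)

`TFam.lf : TFam → LF` (helper330's structure); `main_of`: THEOREM 2C from case (S).
-/

set_option autoImplicit false

namespace Cfsg.Agent.Omega.EH3.TCL

open Module Cfsg.Agent.LargeExtra.SiegFam Cfsg.Agent.LargeExtra.SiegFam.Lin
open Cfsg.Agent.Omega.EH3.TwoC (LF IsR IsN IsC TNe Two)

variable {V : Type*} [AddCommGroup V] [Module (ZMod 2) V]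
variable {q : V → ZMod 2} {b : LinearMap.BilinForm (ZMod 2) V} {H : Subgroup (V ≃ₗ[ZMod 2] V)} {O : Set V}
  {W : V → Submodule (ZMod 2) V} {X : V → Subgroup (V ≃ₗ[ZMod 2] V)}

/-- the statement of case (S) -/
def CaseSProp (q : V → ZMod 2) (b : LinearMap.BilinForm (ZMod 2) V) (O : Set V)
    (W : V → Submodule (ZMod 2) V) (X : V → Subgroup (V ≃ₗ[ZMod 2] V)) : Prop :=
  TNe b O X → Two q b O X → (∀ a ∈ O, ∀ r, IsR q b X a r → q r = 0) →
    (∀ a ∈ O, ∃ r, IsR q b X a r ∧ r ≠ 0 ∧ r ≠ a) →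
    (∀ a ∈ O, ∀ c ∈ O, b a c = 1 → ∀ v, IsR q b X c v → b a v = 0 → v ≠ 0 → ¬ IsN b X a v) →
    (∀ a ∈ O, ∀ c ∈ O, b a c = 1 → ∀ v, IsR q b X c v → b a v = 0 → v ≠ 0 →
      ∀ f ∈ X a, f v = v → f ≠ 1 → f c + c + v ∈ W a) →
    (∀ a ∈ O, ∀ c ∈ O, b a c = 1 → ∀ v, IsR q b X c v → b a v = 0 → v ≠ 0 →
      ∀ r, IsR q b X a r → r ≠ 0 → r ≠ a → b v r = 1) →
    ∀ a ∈ O, ∀ c ∈ O, b a c = 1 → ∃ j, j ≠ 0 ∧ IsC X a j ∧ IsC X c j

namespace TFam

theorem nbr (F : TFam q b H O W X) {a : V} (ha : a ∈ O) : ∃ c ∈ O, b a c = 1 := by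
  by_contra h2
  push Not at h2
  apply F.zero a ha
  apply F.span
  intro c hc
  rw [F.comm]
  rcases zm (b a c) with h3 | h3
  · exact h3
  · exact absurd h3 (h2 c hc)

theorem lf (F : TFam q b H O W X) : LF q b H O W X where
  alt := F.alt
  q_add := F.q_add
  q_H := F.q_H
  zero := F.zero
  stable := F.stable
  trans := F.trans
  nbr := fun _ ha => F.nbr ha
  self_W := F.self_W
  q_W := F.q_W
  W_map := F.W_map
  X_map := F.X_map
  X_H := fun a ha _ hx => F.X_le a ha hx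
  X_a := F.X_fix
  X_sq := F.X_sq
  X_comm := F.X_comm
  X_perp := F.X_perp
  X_W := F.X_W
  inj := F.inj
  surj := F.surj

theorem tne (F : TFam q b H O W X) (hT : ∀ a ∈ O, ∃ x ∈ X a, ¬ XS b X a x) : TNe b O X := by
  intro a ha c hc
  obtain ⟨x, hx, h1⟩ := hT a ha
  obtain ⟨y, hy, z, hz, h2⟩ := F.exists_tri ha hx hc h1
  exact ⟨y, hy, x, hx, z, hz, h2⟩

theorem two_of_four (hF : ∀ a ∈ O, ∃ r, Four q b X a r) : Two q b O X := by
  intro a ha r r' hr hr' r0 ra r0' ra'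
  obtain ⟨s, -, -, -, hs⟩ := hF a ha
  rcases hs r hr with h | h | h | h
  · exact absurd h r0
  · exact absurd h ra
  · rcases hs r' hr' with h' | h' | h' | h'
    · exact absurd h' r0'
    · exact absurd h' ra'
    · left; rw [h, h']
    · right; rw [h, h']
  · rcases hs r' hr' with h' | h' | h' | h'
    · exact absurd h' r0'
    · exact absurd h' ra'
    · right; rw [h, h']; v2
    · left; rw [h, h']

/-- no vector is fixed by `H` -/
theorem no_fix (F : TFam q b H O W X) (hT : ∀ a ∈ O, ∃ x ∈ X a, ¬ XS b X a x) :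
    ∀ j, (∀ h ∈ H, h j = j) → j = 0 := by
  intro j hj
  apply F.span
  intro a ha
  exact F.lf.C_perp (F.tne hT) ha fun x hx => hj x (F.X_le a ha hx)

/-- transitivity -/
theorem all_T (F : TFam q b H O W X) {a : V} (ha : a ∈ O) (h : ∃ x ∈ X a, ¬ XS b X a x) :
    ∀ a ∈ O, ∃ x ∈ X a, ¬ XS b X a x := by
  intro a' ha'
  obtain ⟨g, hg, rfl⟩ := F.trans a ha a' ha'
  obtain ⟨x, hx, h1⟩ := h
  refine ⟨g * x * g⁻¹, F.X_map g hg a ha x hx, fun h2 => h1 ?_⟩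
  have h3 := F.XS_map (H.inv_mem hg) (F.stable g hg a ha) h2
  rw [app_inv] at h3
  have e : g⁻¹ * (g * x * g⁻¹) * g⁻¹⁻¹ = x := by group
  rwa [e] at h3

theorem all_R (F : TFam q b H O W X) {a : V} (ha : a ∈ O) (h : ∃ r, RR q b X a r ∧ r ≠ 0 ∧ r ≠ a) :
    ∀ a ∈ O, ∃ r, RR q b X a r ∧ r ≠ 0 ∧ r ≠ a := by
  intro a' ha'
  obtain ⟨g, hg, rfl⟩ := F.trans a ha a' ha'
  obtain ⟨r, hr, h1, h2⟩ := h
  exact ⟨g r, F.RR_map hg ha hr, fun h3 => h1 (g.map_eq_zero_iff.1 h3), fun h3 => h2 (g.injective h3)⟩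

/-- **THEOREM 2C, linear form**: `RR a = {0, a}` -/
theorem main_of (F : TFam q b H O W X) (hS : CaseSProp q b O W X)
    (hT : ∀ a ∈ O, ∃ x ∈ X a, ¬ XS b X a x) {a : V} (ha : a ∈ O) {r : V} (hr : RR q b X a r) :
    r = 0 ∨ r = a := by
  by_contra hcon
  rw [not_or] at hcon
  have hR := F.all_R ha ⟨r, hr, hcon.1, hcon.2⟩
  have hC : (∀ a ∈ O, ∃ r, Four q b X a r) ∧
      ∀ a ∈ O, ∀ c ∈ O, b a c = 1 → ∃ j, j ≠ 0 ∧ (∀ x ∈ X a, x j = j) ∧ ∀ y ∈ X c, y j = j := by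
    rcases F.dich hT hR with h | h
    · have hF : ∀ a ∈ O, ∃ r, Four q b X a r := fun a ha => by
        obtain ⟨r, h1, -⟩ := h a ha
        exact ⟨r, h1⟩
      have hq : ∀ a ∈ O, ∀ s, RR q b X a s → q s = 0 := by
        intro a ha s hs
        obtain ⟨r, h1, h2, h3⟩ := h a ha
        rcases h1.2.2.2 s hs with h4 | h4 | h4 | h4
        · rw [h4]; exact F.q_zero
        · rw [h4]; exact F.q_self ha
        · rw [h4]; exact h2
        · rw [h4, F.q_add, h2, F.q_self ha, F.comm, h3]; decide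
      refine ⟨hF, hS (F.tne hT) (two_of_four hF) hq hR ?_ ?_ ?_⟩
      · intro a ha c hc hac v hv hav h0
        exact (F.K2 hT ha hc hac hv hav (hq c hc v hv) h0).2.2.1
      · intro a ha c hc hac v hv hav h0
        exact (F.K2 hT ha hc hac hv hav (hq c hc v hv) h0).2.1
      · intro a ha c hc hac v hv hav h0
        exact (F.K2 hT ha hc hac hv hav (hq c hc v hv) h0).2.2.2
    · exact F.case_N hT hR h
  exact F.lf.end_false (F.tne hT) (two_of_four hC.1) hC.2 (F.no_fix hT) ha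

section out

variable {a v : V} {x : V ≃ₗ[ZMod 2] V}

/-- `NN a = W a` -/
theorem NN_W_of (F : TFam q b H O W X) (h : ∀ a ∈ O, ∀ r, RR q b X a r → r = 0 ∨ r = a) (ha : a ∈ O)
    (hv : NN b X a v) : v ∈ W a := by
  obtain ⟨r, hr, hvr⟩ := F.NN_eq ha hv
  have e : v = (v + r) + r := by v2
  rw [e]
  refine (W a).add_mem hvr ?_
  rcases h a ha r hr with h1 | h1
  · rw [h1]; exact (W a).zero_mem
  · rw [h1]; exact F.self_W a ha

/-- `W^⊥ ≤ W` -/
theorem orth_W_of (F : TFam q b H O W X) (h : ∀ a ∈ O, ∀ r, RR q b X a r → r = 0 ∨ r = a) (ha : a ∈ O)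
    (hv : ∀ w ∈ W a, b v w = 0) : v ∈ W a := F.NN_W_of h ha (F.NN_orth ha hv)

/-- the Siegel elements of `X a` are trivial -/
theorem XS_of (F : TFam q b H O W X) (h : ∀ a ∈ O, ∀ r, RR q b X a r → r = 0 ∨ r = a) (ha : a ∈ O)
    (hx : XS b X a x) : x = 1 := by
  obtain ⟨c, -, hac⟩ := F.nbr ha
  apply F.inj a ha x hx.1 c hac
  rcases h a ha _ (F.RR_of_XS ha hx hac) with h1 | h1
  · rw [h1]; exact (W a).zero_mem
  · rw [h1]; exact F.self_W a ha

/-- `C_V(X a) = {0, a}` -/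
theorem fix_of (F : TFam q b H O W X) (h : ∀ a ∈ O, ∀ r, RR q b X a r → r = 0 ∨ r = a)
    (hT : ∀ a ∈ O, ∃ x ∈ X a, ¬ XS b X a x) (ha : a ∈ O) (hv : ∀ x ∈ X a, x v = v) : v = 0 ∨ v = a := by
  have h1 : b a v = 0 := F.lf.C_perp (F.tne hT) ha hv
  exact F.eq_of_fix_W ha (F.NN_W_of h ha ⟨h1, fun x hx => Or.inl (hv x hx)⟩) hv

/-- `2 dim W = dim V` -/
theorem finrank_of (F : TFam q b H O W X) (h : ∀ a ∈ O, ∀ r, RR q b X a r → r = 0 ∨ r = a) (ha : a ∈ O) :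
    2 * finrank (ZMod 2) (W a) = finrank (ZMod 2) V := by
  have hfin := F.alt.finDim
  have h1 : b.orthogonal (W a) ≤ W a := by
    intro v hv
    apply F.orth_W_of h ha
    intro w hw
    rw [F.comm]; exact mem_orth.1 hv w hw
  have h2 : W a ≤ b.orthogonal (W a) := by
    intro v hv
    rw [mem_orth]
    intro w hw
    exact F.b_W ha hw hv
  have h3 := F.alt.finrank_orth (W a)
  rw [le_antisymm h1 h2] at h3
  omega

end out

end TFam

end Cfsg.Agent.Omega.EH3.TCL
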