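import Cfsg.Agent.Omega.EH3.TCL.Form

/-!
# THEOREM 2C: (K1), (K2) and the dichotomy (helper465)
-/

set_option autoImplicit false

namespace Cfsg.Agent.Omega.EH3.TCL

open Module Cfsg.Agent.LargeExtra.SiegFam Cfsg.Agent.LargeExtra.SiegFam.Lin

variable {V : Type*} [AddCommGroup V] [Module (ZMod 2) V]
variable {q : V → ZMod 2} {b : LinearMap.BilinForm (ZMod 2) V} {H : Subgroup (V ≃ₗ[ZMod 2] V)} {O : Set V}
  {W : V → Submodule (ZMod 2) V} {X : V → Subgroup (V ≃ₗ[ZMod 2] V)}

namespace TFam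

variable {a c v : V} {x y z : V ≃ₗ[ZMod 2] V}

/-- (B5) a subgroup of index at most two of `X a` is not Siegel -/
theorem not_index_two (F : TFam q b H O W X) (ha : a ∈ O) (hT : ∃ x ∈ X a, ¬ XS b X a x)
    (P : (V ≃ₗ[ZMod 2] V) → Prop) (h2 : ∀ x ∈ X a, ∀ y ∈ X a, P x ∨ P y ∨ P (x * y))
    (hP : ∀ x ∈ X a, P x → XS b X a x) : False := by
  obtain ⟨x, hx, hxS⟩ := hT
  obtain ⟨v, hv⟩ := F.alt.exists_ne (F.zero a ha)
  obtain ⟨y, hy, z, hz, h1⟩ := F.exists_tri ha hx hv hxS
  rcases h2 x hx y hy with h3 | h3 | h3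
  · exact hxS (hP x hx h3)
  · rw [F.XS_tri ha (hP y hy h3) hx hz] at h1
    exact zero_ne_one h1
  · have h4 := F.XS_tri ha (hP _ ((X a).mul_mem hx hy) h3) hx hz v
    rw [F.tri_mul1 ha hx hy hx hz, F.tri_alt1 ha hx hz, h1, zero_add] at h4
    exact one_ne_zero h4

/-- two independent elements in a subgroup of index at most two -/
theorem pick (F : TFam q b H O W X) (ha : a ∈ O) (hT : ∃ x ∈ X a, ¬ XS b X a x) (hv : b a v = 1)
    (P : (V ≃ₗ[ZMod 2] V) → Prop) (h2 : ∀ x ∈ X a, ∀ y ∈ X a, P x ∨ P y ∨ P (x * y)) :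
    ∃ x ∈ X a, ∃ y ∈ X a, ∃ z ∈ X a, P x ∧ P y ∧ tri b v x y z = 1 := by
  obtain ⟨x, hx, hxS⟩ := hT
  obtain ⟨y, hy, z, hz, h1⟩ := F.exists_tri ha hx hv hxS
  have key : ∃ x1 ∈ X a, ∃ x2 ∈ X a, P x1 ∧ tri b v x1 x2 z = 1 := by
    rcases h2 x hx y hy with h3 | h3 | h3
    · exact ⟨x, hx, y, hy, h3, by rw [F.tri_12 ha hx hy]; exact h1⟩
    · exact ⟨y, hy, x, hx, h3, h1⟩
    · refine ⟨x * y, (X a).mul_mem hx hy, x, hx, h3, ?_⟩
      rw [F.tri_mul1 ha hx hy hx hz, F.tri_alt1 ha hx hz, h1, zero_add]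
  obtain ⟨x1, hx1, x2, hx2, hP, h3⟩ := key
  rcases h2 x2 hx2 z hz with h4 | h4 | h4
  · exact ⟨x1, hx1, x2, hx2, z, hz, hP, h4, h3⟩
  · exact ⟨x1, hx1, z, hz, x2, hx2, hP, h4, by rw [F.tri_23 ha hx1 hz hx2]; exact h3⟩
  · refine ⟨x1, hx1, x2 * z, (X a).mul_mem hx2 hz, z, hz, hP, h4, ?_⟩
    rw [F.tri_mul2 ha hx1 hx2 hz hz, F.tri_alt2 ha hx1 hz, h3, add_zero]

/-- `NN a s` implies that the stabiliser of `s` has index at most two -/
theorem fix_index (hs : NN b X a v) (hfa : ∀ x ∈ X a, x a = a) :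
    ∀ x ∈ X a, ∀ y ∈ X a, x v = v ∨ y v = v ∨ (x * y) v = v := by
  intro x hx y hy
  rcases hs.2 x hx with h1 | h1
  · exact Or.inl h1
  · rcases hs.2 y hy with h2 | h2
    · exact Or.inr (Or.inl h2)
    · right; right
      rw [mul_app, h2, map_add, h1, hfa x hx]; v2

/-- (B7) -/
theorem eq_of_fix_W (F : TFam q b H O W X) (ha : a ∈ O) {w : V} (hw : w ∈ W a)
    (h : ∀ x ∈ X a, x w = w) : w = 0 ∨ w = a := by
  obtain ⟨v, hv⟩ := F.alt.exists_ne (F.zero a ha)
  apply F.eq_of_perp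
  intro u hu
  obtain ⟨x, hx, hx'⟩ := F.surj a ha v hv u hu
  have h1 : u = (x v + v) + (x v + v + u) := by v2
  rw [h1, map_add, F.b_W ha hw hx', add_zero, ← F.b_adj' ha hx, h x hx, add_self, map_zero,
    LinearMap.zero_apply]

/-- (TOOL) -/
theorem tool (F : TFam q b H O W X) (ha : a ∈ O) (hc : c ∈ O) (hv : RR q b X c v)
    (hav : b a v = 0) (hqv : q v = 0) {f : V ≃ₗ[ZMod 2] V} (hf : f ∈ X a) (hfv : f v = v) :
    ∃ h ∈ H, (∀ w, h w = sg q b v (f c + c) w) ∧ h a = a ∧ b v (f c + c) = 0 := by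
  obtain ⟨hcv, g, hg, hg'⟩ := hv
  have hcv' : b v c = 0 := by rw [F.comm]; exact hcv
  have hfc : b v (f c) = 0 := by
    rw [← hfv, F.b_X ha hf]; exact hcv'
  have hy : b v (f c + c) = 0 := by rw [map_add, hfc, hcv', add_zero]
  have hay : b a (f c + c) = 0 := F.b_delta ha hf c
  have hfi : ∀ w, f⁻¹ w = f w := by
    intro w
    rw [← F.X_sq a ha f hf w, app_inv, F.X_sq a ha f hf]
  have key : ∀ w, (f * g * f⁻¹ * g) w = sg q b v (f c + c) w := by
    intro w
    rw [mul_app, mul_app, mul_app, hfi, hg', hg', F.map_sg (F.X_H ha hf), F.X_sq a ha f hf, hfv,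
      sg_swap (by rw [F.q_H f (F.X_H ha hf)]; exact F.q_self hc) hqv, sg_swap (F.q_self hc) hqv,
      F.sg_sg hfc hcv']
  refine ⟨f * g * f⁻¹ * g, H.mul_mem (H.mul_mem (H.mul_mem (F.X_H ha hf) (F.X_H hc hg))
    (H.inv_mem (F.X_H ha hf))) (F.X_H hc hg), key, ?_, hy⟩
  rw [key, sg, F.comm v a, hav, F.comm _ a, hay]; simp

/-- (K1) -/
theorem K1 (F : TFam q b H O W X) (hT : ∀ a ∈ O, ∃ x ∈ X a, ¬ XS b X a x) (ha : a ∈ O) (hc : c ∈ O)
    (hac : b a c = 1) (hv : RR q b X c v) (hvW : v ∈ W a) : v = 0 := by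
  by_contra h0
  have hav : b a v = 0 := F.perp_W ha hvW
  have hva : v ≠ a := by
    intro h
    have h1 := hv.1
    rw [h, F.comm, hac] at h1
    exact one_ne_zero h1
  have hqv : q v = 0 := F.q_W a ha v hvW
  have hN : NN b X a v := F.NN_W ha hvW
  have hidx := fix_index hN (F.X_fix a ha)
  have hcv : b v c = 0 := by rw [F.comm]; exact hv.1
  by_cases hn : ∃ n, NN b X a n ∧ b v n = 1
  · obtain ⟨n, hn, hvn⟩ := hn
    apply F.not_index_two ha (hT a ha) (fun x => x v = v) hidx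
    intro x hx hxv
    obtain ⟨h, hh, he, hha, hy⟩ := F.tool ha hc hv hav hqv hx hxv
    have h1 := F.NN_map hh ha hn
    rw [hha, he, sg_one hvn] at h1
    have h2 : NN b X a (x c + c) := by
      have e : x c + c = (n + b (x c + c) n • v + (x c + c) + q (x c + c) • v) +
          (n + (b (x c + c) n • v + q (x c + c) • v)) := by v2
      rw [e]
      have hsm : ∀ t : ZMod 2, NN b X a (t • v) := by
        intro t
        exact F.NN_W ha ((W a).smul_mem t hvW)
      exact F.NN_add h1 (F.NN_add hn (F.NN_add (hsm _) (hsm _)))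
    exact F.XS_of_NN ha hx hac (by rw [add_self]; exact (W a).zero_mem) h2
  · push Not at hn
    have hn' : ∀ n, NN b X a n → b v n = 0 := by
      intro n h1
      rcases zm (b v n) with h2 | h2
      · exact h2
      · exact absurd h2 (hn n h1)
    obtain ⟨g, hg, hg'⟩ := hv.2
    have hgH := F.X_H hc hg
    have hga : g a = a + v := by
      rw [hg', sg, F.comm v a, hav, F.comm c a, hac, hqv]; simp
    have hgn : ∀ n, b v n = 0 → g n = n + b c n • v := by
      intro n h1
      rw [hg', sg, h1, hqv]; simp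
    have hgg : ∀ n, g (g n) = n := by
      intro n; rw [hg', hg', F.sg_invol hv.1]
    -- `NN (a + v) = NN a`
    have hsm : ∀ t : ZMod 2, NN b X a (t • v) := fun t => F.NN_W ha ((W a).smul_mem t hvW)
    have hO : a + v ∈ O := by rw [← hga]; exact F.stable g hgH a ha
    have hNN : ∀ n, NN b X (a + v) n → NN b X a n := by
      intro n h1
      have h2 : NN b X a (g n) := by
        have h3 := F.NN_map hgH hO h1
        rwa [← hga, hgg] at h3
      have h4 : b v n = 0 := by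
        have h5 := hn' _ h2
        have h6 : g v = v := by
          rw [hgn v (F.self v), hv.1, zero_smul, add_zero]
        rw [← h6, F.b_H hgH] at h5
        exact h5
      rw [hgn n h4] at h2
      have e : n = (n + b c n • v) + b c n • v := by v2
      rw [e]
      exact F.NN_add h2 (hsm _)
    -- `f₁`
    obtain ⟨f, hf, hfv⟩ : ∃ f ∈ X a, f v = v + a := by
      by_contra hcon
      push Not at hcon
      rcases F.eq_of_fix_W ha hvW (fun x hx => by
        rcases F.X_W a ha x hx v hvW with h1 | h1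
        · exact h1
        · exact absurd h1 (hcon x hx)) with h1 | h1
      · exact h0 h1
      · exact hva h1
    have hfH := F.X_H ha hf
    have hvO : v ∈ O := by
      have : f (a + v) = v := by
        rw [map_add, F.X_fix a ha f hf, hfv]; v2
      rw [← this]; exact F.stable f hfH _ hO
    have hNv : ∀ n, NN b X v n → NN b X a n := by
      intro n h1
      have h2 := F.NN_map hfH hvO h1
      rw [hfv, add_comm v a] at h2
      have h3 := F.NN_map hfH ha (hNN _ h2)
      rwa [F.X_sq a ha f hf, F.X_fix a ha f hf] at h3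
    apply F.not_index_two ha (hT a ha) (fun x => x v = v) hidx
    intro x hx hxv
    obtain ⟨h, hh, he, hha, hy⟩ := F.tool ha hc hv hav hqv hx hxv
    have h1 := hNv _ (F.NN_of_sg hvO hy hh he)
    exact F.XS_of_NN ha hx hac (by rw [add_self]; exact (W a).zero_mem) h1

/-- (K2) -/
theorem K2 (F : TFam q b H O W X) (hT : ∀ a ∈ O, ∃ x ∈ X a, ¬ XS b X a x) (ha : a ∈ O) (hc : c ∈ O)
    (hac : b a c = 1) (hv : RR q b X c v) (hav : b a v = 0) (hqv : q v = 0) (h0 : v ≠ 0) :
    v ∉ W a ∧ (∀ f ∈ X a, f v = v → f ≠ 1 → f c + c + v ∈ W a) ∧ ¬ NN b X a v ∧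
      ∀ r, RR q b X a r → r ≠ 0 → r ≠ a → b v r = 1 := by
  have hvW : v ∉ W a := fun h => h0 (F.K1 hT ha hc hac hv h)
  have hw : ∃ w ∈ W a, b v w = 1 := by
    by_contra hcon
    push Not at hcon
    have hcon' : ∀ w ∈ W a, b v w = 0 := by
      intro w hw
      rcases zm (b v w) with h1 | h1
      · exact h1
      · exact absurd h1 (hcon w hw)
    apply F.not_index_two ha (hT a ha) (fun x => x v = v) (fix_index (F.NN_orth ha hcon') (F.X_fix a ha))
    intro x hx hxv
    obtain ⟨h, hh, he, hha, hy⟩ := F.tool ha hc hv hav hqv hx hxv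
    apply F.XS_of_NN ha hx hac (by rw [add_self]; exact (W a).zero_mem : x c + c + (x c + c) ∈ W a)
    apply F.NN_orth ha
    intro w hw
    have h1 := F.W_map h hh a ha w hw
    rw [hha, he, sg_perp (hcon' w hw)] at h1
    rcases zm (b (x c + c) w) with h2 | h2
    · exact h2
    · exfalso
      rw [h2, one_smul] at h1
      apply hvW
      have : v = w + (w + v) := by v2
      rw [this]; exact (W a).add_mem hw h1
  obtain ⟨w, hw, hvw⟩ := hw
  have hstar : ∀ f ∈ X a, f v = v → f ≠ 1 → f c + c + v ∈ W a := by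
    intro f hf hfv hf1
    obtain ⟨h, hh, he, hha, hy⟩ := F.tool ha hc hv hav hqv hf hfv
    have h1 := F.W_map h hh a ha w hw
    rw [hha, he, sg_one hvw] at h1
    have h2 : f c + c + (b (f c + c) w + q (f c + c)) • v ∈ W a := by
      have e : f c + c + (b (f c + c) w + q (f c + c)) • v =
        (w + b (f c + c) w • v + (f c + c) + q (f c + c) • v) + w := by
        rw [add_smul]; v2
      rw [e]; exact (W a).add_mem h1 hw
    rcases zm (b (f c + c) w + q (f c + c)) with h3 | h3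
    · rw [h3, zero_smul, add_zero] at h2
      exact absurd (F.inj a ha f hf c hac h2) hf1
    · rw [h3, one_smul] at h2; exact h2
  have hNN : ¬ NN b X a v := by
    intro hN
    apply F.not_index_two ha (hT a ha) (fun x => x v = v) (fix_index hN (F.X_fix a ha))
    intro x hx hxv
    by_cases hx1 : x = 1
    · refine ⟨hx, fun w _ => ?_⟩
      left; rw [hx1]; rfl
    · exact F.XS_of_NN ha hx hac (hstar x hx hxv hx1) hN
  refine ⟨hvW, hstar, hNN, fun r hr hr0 hra => ?_⟩
  rcases zm (b v r) with h1 | h1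
  · exfalso
    obtain ⟨har, x, hx, hx'⟩ := hr
    have hxv : x v = v := by
      rw [hx', sg_fix hav (by rw [F.comm]; exact h1)]
    have h2 : x c + c + r = b r c • a + q r • a := by rw [hx', sg_one hac]; v2
    have h3 : x c + c + r ∈ W a := by
      rw [h2]
      exact (W a).add_mem ((W a).smul_mem _ (F.self_W a ha)) ((W a).smul_mem _ (F.self_W a ha))
    have hx1 : x ≠ 1 := by
      intro h
      rw [h, one_app, add_self, zero_add] at h3
      rcases F.RR_W ha ⟨har, x, hx, hx'⟩ h3 with h4 | h4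
      · exact hr0 h4
      · exact hra h4
    apply hNN
    have e : v = r + ((x c + c + r) + (x c + c + v)) := by v2
    rw [e]
    exact F.NN_add (F.RR_NN ha ⟨har, x, hx, hx'⟩) (F.NN_W ha ((W a).add_mem h3 (hstar x hx hxv hx1)))
  · exact h1

/-- `RR a` consists of `0, a, r, r + a` -/
def Four (q : V → ZMod 2) (b : LinearMap.BilinForm (ZMod 2) V) (X : V → Subgroup (V ≃ₗ[ZMod 2] V))
    (a r : V) : Prop :=
  RR q b X a r ∧ r ≠ 0 ∧ r ≠ a ∧ ∀ s, RR q b X a s → s = 0 ∨ s = a ∨ s = r ∨ s = r + a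

theorem Four.map (F : TFam q b H O W X) {h : V ≃ₗ[ZMod 2] V} (hh : h ∈ H) (ha : a ∈ O) {r : V}
    (hr : Four q b X a r) : Four q b X (h a) (h r) := by
  obtain ⟨h1, h2, h3, h4⟩ := hr
  refine ⟨F.RR_map hh ha h1, fun h5 => h2 (h.map_eq_zero_iff.1 h5), fun h5 => h3 (h.injective h5),
    fun s hs => ?_⟩
  have h5 : RR q b X a (h⁻¹ s) := by
    have := F.RR_map (H.inv_mem hh) (F.stable h hh a ha) hs
    rwa [app_inv] at this
  have h6 : ∀ t, h⁻¹ s = t → s = h t := fun t ht => by rw [← ht, inv_app]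
  rcases h4 _ h5 with h7 | h7 | h7 | h7
  · left; rw [h6 _ h7, map_zero]
  · right; left; exact h6 _ h7
  · right; right; left; exact h6 _ h7
  · right; right; right; rw [h6 _ h7, map_add]

/-- the partner of a pair -/
theorem Four.perp (F : TFam q b H O W X) (ha : a ∈ O) {r : V} (hr : Four q b X a r) (hac : b a c = 1) :
    ∃ s, Four q b X a s ∧ b c s = 0 ∧ (s = r ∨ s = r + a) := by
  rcases zm (b c r) with h1 | h1
  · exact ⟨r, hr, h1, Or.inl rfl⟩
  · obtain ⟨h2, h3, h4, h5⟩ := hr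
    refine ⟨r + a, ⟨F.RR_add h2 (F.RR_a ha), fun h => h4 (eq_of_add h), fun h => h3 ?_, ?_⟩, ?_, Or.inr rfl⟩
    · calc r = (r + a) + a := by v2
        _ = 0 := by rw [h]; v2
    · intro s hs
      rcases h5 s hs with h6 | h6 | h6 | h6
      · exact Or.inl h6
      · exact Or.inr (Or.inl h6)
      · right; right; right; rw [h6]; v2
      · right; right; left; exact h6
    · rw [map_add, h1, F.comm c a, hac]; decide

/-- the two cases: `RR a = {0, a, r, r + a}` totally singular for all `a ∈ O`; or the perpendicular part of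
`RR c` is anisotropic for all pairs -/
theorem dich (F : TFam q b H O W X) (hT : ∀ a ∈ O, ∃ x ∈ X a, ¬ XS b X a x)
    (hR : ∀ a ∈ O, ∃ r, RR q b X a r ∧ r ≠ 0 ∧ r ≠ a) :
    (∀ a ∈ O, ∃ r, Four q b X a r ∧ q r = 0 ∧ b a r = 0) ∨
    (∀ a ∈ O, ∀ c ∈ O, b a c = 1 → ∀ v, RR q b X c v → b a v = 0 → v ≠ 0 → q v = 1) := by
  by_cases hex : ∃ a ∈ O, ∃ c ∈ O, b a c = 1 ∧ ∃ v, RR q b X c v ∧ b a v = 0 ∧ v ≠ 0 ∧ q v = 0
  · left
    obtain ⟨a, ha, c, hc, hac, v, hv, hav, h0, hqv⟩ := hex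
    obtain ⟨-, -, -, h4⟩ := F.K2 hT ha hc hac hv hav hqv h0
    obtain ⟨r, hr, hr0, hra⟩ := hR a ha
    have hfour : Four q b X a r := by
      refine ⟨hr, hr0, hra, fun s hs => ?_⟩
      by_cases h5 : s = 0
      · exact Or.inl h5
      by_cases h6 : s = a
      · exact Or.inr (Or.inl h6)
      have h7 : b v (s + r) = 0 := by rw [map_add, h4 s hs h5 h6, h4 r hr hr0 hra]; decide
      right; right
      by_contra hcon
      push Not at hcon
      have h8 := h4 (s + r) (F.RR_add hs hr) (fun h => hcon.1 (eq_of_add h)) (fun h => hcon.2 (by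
        calc s = (s + r) + r := by v2
          _ = r + a := by rw [h]; v2))
      rw [h7] at h8
      exact zero_ne_one h8
    obtain ⟨h, hh, hhc⟩ := F.trans a ha c hc
    have hfc := Four.map F hh ha hfour
    rw [hhc] at hfc
    have hvc : v ≠ c := by
      intro h
      rw [h, hac] at hav
      exact one_ne_zero hav
    have hqc : q (h r) = 0 := by
      rcases hfc.2.2.2 v hv with h5 | h5 | h5 | h5
      · exact absurd h5 h0
      · exact absurd h5 hvc
      · rw [← h5]; exact hqv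
      · have h6 : h r = v + c := by rw [h5]; v2
        rw [h6, F.q_add, hqv, F.q_self hc, F.comm v c, hv.1]; decide
    intro a' ha'
    obtain ⟨k, hk, hka⟩ := F.trans c hc a' ha'
    have hfa := Four.map F hk hc hfc
    rw [hka] at hfa
    exact ⟨k (h r), hfa, by rw [F.q_H k hk]; exact hqc, hfa.1.1⟩
  · right
    intro a ha c hc hac v hv hav h0
    apply zm_ne
    intro hq
    exact hex ⟨a, ha, c, hc, hac, v, hv, hav, h0, hq⟩

end TFam

end Cfsg.Agent.Omega.EH3.TCL
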